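import Groth.Agent.SiteBase.DescentSS.Engine
import Groth.Agent.SiteBase.CofreeFam

/-!
# Exactness of the rows on injective presheaves
-/

set_option autoImplicit false
set_option linter.unusedSectionVars false
set_option backward.isDefEq.respectTransparency false

universe u

open CategoryTheory CategoryTheory.Limits Opposite Simplicial AlgebraicTopology

noncomputable section

namespace Groth.Agent.ProperDescent

variable {C : Type u} [SmallCategory C]

/-- Values in a cofree presheaf. -/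
def ev (Q : C → AddCommGrpCat.{u}) {c : C} (T : C) (φ : T ⟶ c) :
    (SiteBase.cofreeFam Q).obj (op c) →+ Q T where
  toFun x := (show ∀ T0 : C, (T0 ⟶ c) → Q T0 from x) T φ
  map_zero' := rfl
  map_add' _ _ := rfl

lemma ev_map (Q : C → AddCommGrpCat.{u}) {c c' : C} (h : c' ⟶ c) (T : C) (φ : T ⟶ c')
    (x : (SiteBase.cofreeFam Q).obj (op c)) :
    ev Q T φ (((SiteBase.cofreeFam Q).map h.op).hom x) = ev Q T (φ ≫ h) x := rfl

variable (K : SimplicialObject C)

/-- Contractions of the sets of morphisms give exactness on injective presheaves. -/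
theorem exactAt_cx_of_injective
    (h : ∀ (T : C) (p : ℕ), (T ⟶ K _⦋p⦌) → (T ⟶ K _⦋p + 1⦌))
    (h0 : ∀ (T : C) (p : ℕ) (φ : T ⟶ K _⦋p⦌), h T p φ ≫ K.δ (0 : Fin (p + 2)) = φ)
    (hsucc : ∀ (T : C) (p : ℕ) (φ : T ⟶ K _⦋p + 1⦌) (i : Fin (p + 2)),
      h T (p + 1) φ ≫ K.δ i.succ = h T p (φ ≫ K.δ i))
    (P : Cᵒᵖ ⥤ AddCommGrpCat.{u}) [Injective P] (p : ℕ) : ((DescentSS.cx K).obj P).ExactAt (p + 1) := by
  obtain ⟨Q, -, i, r, hir⟩ := SiteBase.exists_retract_cofreeFam P
  suffices hQ : ((DescentSS.cx K).obj (SiteBase.cofreeFam Q)).ExactAt (p + 1) by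
    rw [HomologicalComplex.exactAt_iff_isZero_homology] at hQ ⊢
    have e := congrArg (fun z => HomologicalComplex.homologyMap ((DescentSS.cx K).map z) (p + 1)) hir
    simp only [Functor.map_comp, HomologicalComplex.homologyMap_comp] at e
    replace e := e.trans ((congrArg (fun z => HomologicalComplex.homologyMap z (p + 1)) ((DescentSS.cx K).map_id P)).trans
      (HomologicalComplex.homologyMap_id _ _))
    have : Mono (HomologicalComplex.homologyMap ((DescentSS.cx K).map i) (p + 1)) := (SplitMono.mk _ e).mono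
    exact IsZero.of_mono (HomologicalComplex.homologyMap ((DescentSS.cx K).map i) (p + 1)) hQ
  rw [((DescentSS.cx K).obj (SiteBase.cofreeFam Q)).exactAt_iff' p (p + 1) (p + 2) (by simp) (by simp),
    ShortComplex.ab_exact_iff]
  intro (x : (SiteBase.cofreeFam Q).obj (op (K _⦋p + 1⦌))) hx
  change (((DescentSS.cx K).obj (SiteBase.cofreeFam Q)).d (p + 1) (p + 1 + 1)).hom x = 0 at hx
  let y : (SiteBase.cofreeFam Q).obj (op (K _⦋p⦌)) :=
    (fun T φ => ev Q T (h T p φ) x : ∀ T : C, (T ⟶ K _⦋p⦌) → Q T)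
  refine ⟨y, ?_⟩
  suffices H : ∀ (T : C) (φ : T ⟶ K _⦋p + 1⦌),
      ev Q T φ ((((DescentSS.cx K).obj (SiteBase.cofreeFam Q)).d p (p + 1)).hom y) = ev Q T φ x from
    funext₂ fun T φ => H T φ
  intro T φ
  have hh := congrArg (ev Q T (h T (p + 1) φ)) hx
  rw [DescentSS.cx_d_apply, map_sum, map_zero, Fin.sum_univ_succ] at hh
  refine (congrArg (ev Q T φ) (DescentSS.cx_d_apply K (SiteBase.cofreeFam Q) p y)).trans ?_
  rw [map_sum]
  have e0 : ev Q T (h T (p + 1) φ) (((SiteBase.cofreeFam Q).map (K.δ (0 : Fin (p + 3))).op).hom x) = ev Q T φ x :=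
    (ev_map Q _ T _ x).trans (congrArg (fun t => ev Q T t x) (h0 T (p + 1) φ))
  have ei : ∀ j : Fin (p + 2), ev Q T (h T (p + 1) φ) (((SiteBase.cofreeFam Q).map (K.δ j.succ).op).hom x) =
      ev Q T φ (((SiteBase.cofreeFam Q).map (K.δ j).op).hom y) := fun j =>
    (ev_map Q _ T _ x).trans (congrArg (fun t => ev Q T t x) (hsucc T p φ j))
  have z0 : ev Q T (h T (p + 1) φ) ((-1 : ℤ) ^ ((0 : Fin (p + 3)) : ℕ) •
      ((SiteBase.cofreeFam Q).map (K.δ (0 : Fin (p + 3))).op).hom x) = ev Q T φ x :=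
    (congrArg (ev Q T (h T (p + 1) φ)) (by simp)).trans e0
  have zi : ∀ j : Fin (p + 2), ev Q T (h T (p + 1) φ) ((-1 : ℤ) ^ (j.succ : ℕ) •
      ((SiteBase.cofreeFam Q).map (K.δ j.succ).op).hom x) =
      - ev Q T φ ((-1 : ℤ) ^ (j : ℕ) • ((SiteBase.cofreeFam Q).map (K.δ j).op).hom y) := fun j => by
    refine (map_zsmul (ev Q T (h T (p + 1) φ)) _ _).trans ?_
    refine (congrArg (((-1 : ℤ) ^ (j.succ : ℕ)) • ·) (ei j)).trans ?_
    refine Eq.trans ?_ (congrArg Neg.neg (map_zsmul (ev Q T φ) ((-1 : ℤ) ^ (j : ℕ)) _)).symm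
    simp [pow_succ]
  rw [z0, Finset.sum_congr rfl (fun j _ => zi j), Finset.sum_neg_distrib] at hh
  exact (add_neg_eq_zero.1 hh).symm

end Groth.Agent.ProperDescent
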