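import Groth.Agent.SiteBase.CompareSit.CycleSeq

/-!
# Quasi-isomorphisms of complexes of acyclic objects
-/

set_option autoImplicit false
set_option linter.unusedSectionVars false
set_option backward.isDefEq.respectTransparency false

universe v v' u u'

open CategoryTheory CategoryTheory.Limits

noncomputable section

namespace Groth.Agent.CompareSit

variable {A : Type u} [Category.{v} A] [Abelian A] {B : Type u'} [Category.{v'} B] [Abelian B]
  (G : A ⥤ B) [G.Additive] [PreservesFiniteLimits G]
variable {K L : CochainComplex A ℕ} (f : K ⟶ L)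

lemma cyc_naturality (k : ℕ) :
    HomologicalComplex.cyclesMap ((G.mapHomologicalComplex (ComplexShape.up ℕ)).map f) k ≫ cyc G L k =
      cyc G K k ≫ G.map (HomologicalComplex.cyclesMap f k) := by
  have : G.PreservesMonomorphisms := inferInstance
  rw [← cancel_mono (G.map (L.iCycles k)), Category.assoc, cyc_i,
    HomologicalComplex.cyclesMap_i, Category.assoc, ← G.map_comp, HomologicalComplex.cyclesMap_i,
    G.map_comp, ← Category.assoc, cyc_i]
  rfl

/-- The map on boundaries. -/
def bdMap (k : ℕ) : Bd K k ⟶ Bd L k :=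
  kernel.map _ _ (HomologicalComplex.cyclesMap f k) (HomologicalComplex.homologyMap f k)
    (HomologicalComplex.homologyπ_naturality f k)

lemma bdMap_ι (k : ℕ) :
    bdMap f k ≫ kernel.ι (L.homologyπ k) = kernel.ι (K.homologyπ k) ≫ HomologicalComplex.cyclesMap f k :=
  kernel.lift_ι _ _ _

/-- The map of the sequences `0 → Z → X → B → 0`. -/
def sesZMap (k : ℕ) : sesZ K k ⟶ sesZ L k where
  τ₁ := HomologicalComplex.cyclesMap f k
  τ₂ := f.f k
  τ₃ := bdMap f (k + 1)
  comm₁₂ := HomologicalComplex.cyclesMap_i f k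
  comm₂₃ := by
    show f.f k ≫ toBd L k = toBd K k ≫ bdMap f (k + 1)
    rw [← cancel_mono (kernel.ι (L.homologyπ (k + 1))), Category.assoc, toBd_ι, Category.assoc, bdMap_ι,
      ← Category.assoc, toBd_ι, ← cancel_mono (L.iCycles (k + 1)), Category.assoc, Category.assoc,
      HomologicalComplex.toCycles_i, HomologicalComplex.cyclesMap_i, HomologicalComplex.toCycles_i_assoc,
      HomologicalComplex.Hom.comm]

lemma bdToHomology_naturality (k : ℕ) :
    bdToHomology G K k ≫ HomologicalComplex.homologyMap ((G.mapHomologicalComplex (ComplexShape.up ℕ)).map f) (k + 1) =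
      G.map (bdMap f (k + 1)) ≫ bdToHomology G L k := by
  unfold bdToHomology
  rw [Category.assoc, Category.assoc, HomologicalComplex.homologyπ_naturality, ← G.map_comp_assoc, bdMap_ι,
    G.map_comp_assoc]
  congr 1
  rw [IsIso.inv_comp_eq, ← Category.assoc (cyc G K (k + 1)), ← cyc_naturality, Category.assoc,
    IsIso.hom_inv_id_assoc]

variable [EnoughInjectives A]

/-- A quasi-isomorphism of exact complexes of acyclic objects stays one. -/
theorem isIso_homologyMap_of_acyclic (hK : Acyclic G K) (hL : Acyclic G L)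
    (eK : ∀ q, IsZero (K.homology (q + 1))) (eL : ∀ q, IsZero (L.homology (q + 1)))
    (h0 : IsIso (HomologicalComplex.homologyMap f 0)) (n : ℕ) :
    IsIso (HomologicalComplex.homologyMap ((G.mapHomologicalComplex (ComplexShape.up ℕ)).map f) n) := by
  let Δ := SESResLib.derivedLES G
  have hc0 : IsIso (HomologicalComplex.cyclesMap f 0) := by
    have e : HomologicalComplex.cyclesMap f 0 =
        K.homologyπ 0 ≫ HomologicalComplex.homologyMap f 0 ≫ inv (L.homologyπ 0) := by
      rw [HomologicalComplex.homologyπ_naturality_assoc, IsIso.hom_inv_id, Category.comp_id]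
    rw [e]
    infer_instance
  have hbd : ∀ k, IsIso (kernel.ι (K.homologyπ (k + 1))) ∧ IsIso (kernel.ι (L.homologyπ (k + 1))) := fun k =>
    ⟨isIso_kernel_ι_of_isZero K _ (eK k), isIso_kernel_ι_of_isZero L _ (eL k)⟩
  have key : ∀ k p, IsIso ((G.rightDerived (p + 1)).map (HomologicalComplex.cyclesMap f k)) := by
    intro k
    induction k with
    | zero => exact fun p => inferInstance
    | succ k ih =>
      intro p
      have := (hbd k).1
      have := (hbd k).2
      let dK := Δ.δ (sesZ K k) (sesZ_shortExact K k) (p + 1) (p + 2) rfl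
      let dL := Δ.δ (sesZ L k) (sesZ_shortExact L k) (p + 1) (p + 2) rfl
      have hdK : IsIso dK :=
        haveI := (Δ.exact₃ (sesZ K k) (sesZ_shortExact K k) (p + 1) (p + 2) rfl).mono_g ((hK k p).eq_of_src _ _)
        haveI := (Δ.exact₁ (sesZ K k) (sesZ_shortExact K k) (p + 1) (p + 2) rfl).epi_f ((hK k (p + 1)).eq_of_tgt _ _)
        isIso_of_mono_of_epi _
      have hdL : IsIso dL :=
        haveI := (Δ.exact₃ (sesZ L k) (sesZ_shortExact L k) (p + 1) (p + 2) rfl).mono_g ((hL k p).eq_of_src _ _)
        haveI := (Δ.exact₁ (sesZ L k) (sesZ_shortExact L k) (p + 1) (p + 2) rfl).epi_f ((hL k (p + 1)).eq_of_tgt _ _)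
        isIso_of_mono_of_epi _
      have hn : (G.rightDerived (p + 1)).map (bdMap f (k + 1)) ≫ dL =
          dK ≫ (G.rightDerived (p + 2)).map (HomologicalComplex.cyclesMap f k) :=
        Δ.δ_natural (sesZ_shortExact K k) (sesZ_shortExact L k) (sesZMap f k) (p + 1) (p + 2) rfl
      have hb : IsIso ((G.rightDerived (p + 1)).map (bdMap f (k + 1))) := by
        have : IsIso ((G.rightDerived (p + 1)).map (bdMap f (k + 1)) ≫ dL) := by
          rw [hn]
          have := ih (p + 1)
          exact IsIso.comp_isIso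
        exact IsIso.of_isIso_comp_right _ dL
      have e : HomologicalComplex.cyclesMap f (k + 1) =
          inv (kernel.ι (K.homologyπ (k + 1))) ≫ bdMap f (k + 1) ≫ kernel.ι (L.homologyπ (k + 1)) := by
        rw [bdMap_ι, IsIso.inv_hom_id_assoc]
      rw [e, Functor.map_comp, Functor.map_comp]
      exact IsIso.comp_isIso
  cases n with
  | zero =>
    let φ := (G.mapHomologicalComplex (ComplexShape.up ℕ)).map f
    have hc : IsIso (HomologicalComplex.cyclesMap φ 0) := by
      have e : HomologicalComplex.cyclesMap φ 0 =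
          cyc G K 0 ≫ G.map (HomologicalComplex.cyclesMap f 0) ≫ inv (cyc G L 0) := by
        rw [← Category.assoc, IsIso.eq_comp_inv]
        exact cyc_naturality G f 0
      rw [e]
      infer_instance
    have e : HomologicalComplex.homologyMap φ 0 =
        inv ((mapC G K).homologyπ 0) ≫ HomologicalComplex.cyclesMap φ 0 ≫ (mapC G L).homologyπ 0 := by
      rw [IsIso.eq_inv_comp]
      exact HomologicalComplex.homologyπ_naturality φ 0
    rw [e]
    exact IsIso.comp_isIso
  | succ k =>
    let dK := (r0 G).inv.app _ ≫ Δ.δ (sesZ K k) (sesZ_shortExact K k) 0 1 rfl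
    let dL := (r0 G).inv.app _ ≫ Δ.δ (sesZ L k) (sesZ_shortExact L k) 0 1 rfl
    have hdK : Epi dK :=
      haveI := (Δ.exact₁ (sesZ K k) (sesZ_shortExact K k) 0 1 rfl).epi_f ((hK k 0).eq_of_tgt _ _)
      epi_comp _ _
    have hdL : Epi dL :=
      haveI := (Δ.exact₁ (sesZ L k) (sesZ_shortExact L k) 0 1 rfl).epi_f ((hL k 0).eq_of_tgt _ _)
      epi_comp _ _
    have hn : dK ≫ (G.rightDerived 1).map (HomologicalComplex.cyclesMap f k) = G.map (bdMap f (k + 1)) ≫ dL := by
      show ((r0 G).inv.app _ ≫ _) ≫ _ = _ ≫ (r0 G).inv.app _ ≫ _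
      rw [Category.assoc, (r0 G).inv.naturality_assoc]
      exact congrArg ((r0 G).inv.app _ ≫ ·)
        (Δ.δ_natural (sesZ_shortExact K k) (sesZ_shortExact L k) (sesZMap f k) 0 1 rfl).symm
    have conn : ∀ (M : CochainComplex A ℕ) (hM : Acyclic G M) (eM : ∀ q, IsZero (M.homology (q + 1)))
        (d : G.obj (Bd M (k + 1)) ⟶ (G.rightDerived 1).obj (M.cycles k)),
        d = (r0 G).inv.app _ ≫ Δ.δ (sesZ M k) (sesZ_shortExact M k) 0 1 rfl → Epi d →
        ∃ j : (G.rightDerived 1).obj (M.cycles k) ⟶ (mapC G M).homology (k + 1),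
          IsIso j ∧ d ≫ j = bdToHomology G M k := by
      intro M hM eM d hd hepi
      have h0 : (G.rightDerived 0).map (toBd M k) ≫ Δ.δ (sesZ M k) (sesZ_shortExact M k) 0 1 rfl = 0 :=
        Δ.comp_δ (sesZ M k) (sesZ_shortExact M k) 0 1 rfl
      have hex : (ShortComplex.mk _ _ h0).Exact := Δ.exact₃ (sesZ M k) (sesZ_shortExact M k) 0 1 rfl
      have w : G.map (toBd M k) ≫ d = 0 := by
        rw [hd, (r0 G).inv.naturality_assoc, h0, comp_zero]
      have hex' : (ShortComplex.mk _ _ w).Exact := by
        refine ShortComplex.exact_of_iso (ShortComplex.isoMk (S₁ := ShortComplex.mk _ _ h0)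
          (S₂ := ShortComplex.mk _ _ w) ((r0 G).app _) ((r0 G).app _) (Iso.refl _) ?_ ?_) hex
        · exact ((r0 G).hom.naturality (toBd M k)).symm
        · show (r0 G).hom.app _ ≫ d = _ ≫ 𝟙 _
          rw [hd, Iso.hom_inv_id_app_assoc, Category.comp_id]
      have : Epi (ShortComplex.mk _ _ w).g := hepi
      obtain ⟨j, hj⟩ := CokernelCofork.IsColimit.desc' hex'.gIsCokernel (bdToHomology G M k)
        (toBd_bdToHomology G M k)
      have hj' : d ≫ j = bdToHomology G M k := hj
      have hb : Epi (bdToHomology G M k) :=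
        (edge_exact G M k).epi_f ((G.map_isZero (eM k)).eq_of_tgt _ _)
      have : Epi j := epi_of_epi_fac hj'
      have : Mono j := by
        refine Preadditive.mono_of_cancel_zero _ fun {P} y hy => ?_
        obtain ⟨A₁, π₁, hπ₁, b, hb'⟩ := surjective_up_to_refinements_of_epi d y
        obtain ⟨A₂, π₂, hπ₂, x, hx⟩ := (bdToHomology_exact G M k).exact_up_to_refinements b
          (by show b ≫ bdToHomology G M k = 0; rw [← hj', ← Category.assoc, ← hb', Category.assoc, hy, comp_zero])
        have : π₂ ≫ π₁ ≫ y = 0 := by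
          rw [hb', ← Category.assoc, hx, Category.assoc, w, comp_zero]
        rw [← cancel_epi π₁, comp_zero, ← cancel_epi π₂, comp_zero]
        exact this
      exact ⟨j, isIso_of_mono_of_epi _, hj'⟩
    obtain ⟨jK, hjK, ejK⟩ := conn K hK eK dK rfl hdK
    obtain ⟨jL, hjL, ejL⟩ := conn L hL eL dL rfl hdL
    have comm : (G.rightDerived 1).map (HomologicalComplex.cyclesMap f k) ≫ jL =
        jK ≫ HomologicalComplex.homologyMap ((G.mapHomologicalComplex (ComplexShape.up ℕ)).map f) (k + 1) := by
      rw [← cancel_epi dK, ← Category.assoc, hn, Category.assoc, ejL, ← Category.assoc, ejK,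
        bdToHomology_naturality]
    have := key k 0
    have : IsIso (jK ≫ HomologicalComplex.homologyMap ((G.mapHomologicalComplex (ComplexShape.up ℕ)).map f) (k + 1)) := by
      rw [← comm]; exact IsIso.comp_isIso
    exact IsIso.of_isIso_comp_left jK _

end Groth.Agent.CompareSit
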