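import Groth.Agent.SiteBase.ProperDescent.Beta
import Groth.Agent.SiteBase.ProperDescent.QuasiAcyclic

/-!
# Stalks of higher direct images as cohomology of fibres, compatibly with restriction
-/

set_option autoImplicit false
set_option linter.unusedSectionVars false
set_option backward.isDefEq.respectTransparency false

universe u

open CategoryTheory CategoryTheory.Limits Opposite TopologicalSpace Topology
open Groth.Agent.DescentSS

noncomputable section

namespace Groth.Agent.ProperDescent

/-- Inverse images of flasque sheaves to compact relatively Hausdorff subspaces are acyclic. -/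
theorem subsingleton_H_pull_flasque {X W : TopCat.{u}} (i : W ⟶ X) [CompactSpace W] (hi : IsEmbedding i)
    (hr : CompactSub.RelHaus (Set.range i)) (Q : CohTop.Ab X) [TopCat.Sheaf.IsFlasque Q] (n : ℕ) :
    Subsingleton (CohTop.H ((CohTop.pull i).obj Q) (n + 1)) :=
  haveI : T2Space W := ⟨fun x y hxy => by
    obtain ⟨U, V, hU, hV, hx, hy, hd⟩ := hr _ ⟨x, rfl⟩ _ ⟨y, rfl⟩ (fun e => hxy (hi.injective e))
    exact ⟨_, _, hU.preimage i.hom.continuous, hV.preimage i.hom.continuous, hx, hy, hd.preimage _⟩⟩
  CompactSub.subsingleton_H_of_isSoft _ (CompactSub.isSoft_pull hi hr Q) n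

lemma isZero_rightDerived_secFun {X : TopCat.{u}} (Q : CohTop.Ab X) (n : ℕ)
    (h : Subsingleton (CohTop.H Q (n + 1))) : IsZero (((DescentSS.secFun X ⊤).rightDerived (n + 1)).obj Q) :=
  IsZero.of_iso (AddCommGrpCat.isZero_of_subsingleton _) (DescentSS.nonempty_rightDerived_secFun_iso Q (n + 1)).some

variable {S : TopCat.{u}} {ι : Type u} (Z : ι → TopCat.{u}) (g : ∀ i, Z i ⟶ S)
variable {o o' : Option ι} (c : sp (S := S) Z o' ⟶ sp (S := S) Z o) (w : ∀ z, str Z g o (c z) = str Z g o' z)
  (s : S) (hs : ∀ z, str Z g o' z = s)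

instance preservesFiniteLimits_resTo (o : Option ι) : PreservesFiniteLimits (resTo Z g o) :=
  haveI : PreservesLimitsOfSize.{0, 0} (resTo Z g o) :=
    ((opnFunctor Z g o).sheafAdjunctionContinuous AddCommGrpCat.{u}
      (Opens.grothendieckTopology _) (covers Z g)).rightAdjoint_preservesLimits
  inferInstance

instance preservesFiniteColimits_resTo (o : Option ι) : PreservesFiniteColimits (resTo Z g o) :=
  haveI : PreservesColimitsOfSize.{0, 0} (resTo Z g o) :=
    ((opnFunctor Z g o).sheafAdjunctionCocontinuous AddCommGrpCat.{u}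
      (Opens.grothendieckTopology _) (covers Z g)).leftAdjoint_preservesColimits
  inferInstance

/-- The comparison is an isomorphism on cohomology for sheaves from the base. -/
theorem isIso_homologyMap_lam (hc : IsEmbedding c) (hrange : str Z g o ⁻¹' {s} ⊆ Set.range c)
    (hf : IsProperMap (str Z g o)) (hr : CompactSub.RelHaus (str Z g o ⁻¹' {s}))
    (F : CohTop.Ab S) (R : InjectiveResolution ((fromBase Z g).obj F)) (q : ℕ) :
    IsIso (HomologicalComplex.homologyMap
      ((NatTrans.mapHomologicalComplex (lam Z g c w s hs) (ComplexShape.up ℕ)).app R.cocomplex) q) := by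
  have hy : ∀ z, str Z g o (c z) = s := fun z => (w z).trans (hs z)
  have hr' : CompactSub.RelHaus (Set.range c) := hr.mono (by rintro _ ⟨z, rfl⟩; exact hy z)
  have : CompactSpace (sp (S := S) Z o') := by
    have h1 : IsCompact (Set.range c) := by
      rw [Set.Subset.antisymm (by rintro _ ⟨z, rfl⟩; exact hy z) hrange]
      exact hf.isCompact_preimage isCompact_singleton
    exact ⟨hc.isInducing.isCompact_iff.2 (by rwa [Set.image_univ])⟩
  have := CompactSub.isIso_bcFibre c (str Z g o) s hy hf.isClosedMap hrange hc
    (hf.isCompact_preimage isCompact_singleton) hr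
  let E₁ := resTo Z g o ⋙ CohTop.pull c
  let E₂ := resTo Z g o'
  let Γ := DescentSS.secFun (sp (S := S) Z o') ⊤
  have : PreservesFiniteLimits E₁ := comp_preservesFiniteLimits _ _
  have : PreservesFiniteColimits E₁ := comp_preservesFiniteColimits _ _
  let f : (E₁.mapHomologicalComplex (ComplexShape.up ℕ)).obj R.cocomplex ⟶
      (E₂.mapHomologicalComplex (ComplexShape.up ℕ)).obj R.cocomplex :=
    (NatTrans.mapHomologicalComplex (beta Z g c w) (ComplexShape.up ℕ)).app R.cocomplex
  have hex : ∀ (E : Sheaf (covers Z g) AddCommGrpCat.{u} ⥤ CohTop.Ab (sp (S := S) Z o'))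
      [E.Additive] [PreservesFiniteLimits E] [PreservesFiniteColimits E] (p : ℕ),
      IsZero (((E.mapHomologicalComplex (ComplexShape.up ℕ)).obj R.cocomplex).homology (p + 1)) := fun E _ _ _ p => by
    have h := ((R.cocomplex.exactAt_iff' p (p + 1) (p + 1 + 1) (by simp) (by simp)).1
      (R.cocomplex_exactAt_succ p)).map E
    exact (HomologicalComplex.exactAt_iff_isZero_homology _ _).1
      ((HomologicalComplex.exactAt_iff' _ p (p + 1) (p + 1 + 1) (by simp) (by simp)).2 h)
  have h0 : IsIso (HomologicalComplex.homologyMap f 0) := by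
    have := isIso_beta Z g c w F
    let m₁ := (E₁.mapHomologicalComplex (ComplexShape.up ℕ)).map R.ι
    let m₂ := (E₂.mapHomologicalComplex (ComplexShape.up ℕ)).map R.ι
    let b := (NatTrans.mapHomologicalComplex (beta Z g c w) (ComplexShape.up ℕ)).app
      ((CochainComplex.single₀ _).obj ((fromBase Z g).obj F))
    have hb : IsIso b := by
      have : ∀ i, IsIso (b.f i) := fun i => by
        show IsIso ((beta Z g c w).app (((CochainComplex.single₀ _).obj ((fromBase Z g).obj F)).X i))
        rcases i with _ | i
        · exact (NatTrans.isIso_app_iff_of_iso (beta Z g c w)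
            (HomologicalComplex.singleObjXSelf (ComplexShape.up ℕ) 0 ((fromBase Z g).obj F))).2 ‹_›
        · exact ⟨0, (E₁.map_isZero (HomologicalComplex.isZero_single_obj_X (ComplexShape.up ℕ) 0 _ (i + 1) (by simp))).eq_of_src _ _,
            (E₂.map_isZero (HomologicalComplex.isZero_single_obj_X (ComplexShape.up ℕ) 0 _ (i + 1) (by simp))).eq_of_src _ _⟩
      exact HomologicalComplex.Hom.isIso_of_components b
    have hsq : m₁ ≫ f = b ≫ m₂ := (NatTrans.mapHomologicalComplex (beta Z g c w) (ComplexShape.up ℕ)).naturality R.ι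
    have : IsIso (HomologicalComplex.homologyMap m₁ 0 ≫ HomologicalComplex.homologyMap f 0) := by
      rw [← HomologicalComplex.homologyMap_comp, hsq, HomologicalComplex.homologyMap_comp]
      infer_instance
    exact IsIso.of_isIso_comp_left (HomologicalComplex.homologyMap m₁ 0) _
  have hK : CompareSit.Acyclic Γ ((E₁.mapHomologicalComplex (ComplexShape.up ℕ)).obj R.cocomplex) := fun i p =>
    haveI := R.injective i
    haveI := isFlasque_resTo Z g o (R.cocomplex.X i)
    isZero_rightDerived_secFun _ p (subsingleton_H_pull_flasque c hc hr' _ p)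
  have hL : CompareSit.Acyclic Γ ((E₂.mapHomologicalComplex (ComplexShape.up ℕ)).obj R.cocomplex) := fun i p =>
    haveI := R.injective i
    haveI := isFlasque_resTo Z g o' (R.cocomplex.X i)
    isZero_rightDerived_secFun _ p (SiteBase.subsingleton_H_of_isFlasque ((resTo Z g o').obj (R.cocomplex.X i)) p)
  have h1 := CompareSit.isIso_homologyMap_of_acyclic Γ f hK hL (hex E₁) (hex E₂) h0 q
  have e : (NatTrans.mapHomologicalComplex (lam Z g c w s hs) (ComplexShape.up ℕ)).app R.cocomplex =
      (NatTrans.mapHomologicalComplex (Functor.whiskerLeft (resTo Z g o) (CompactSub.bcFibre c (str Z g o) s hy))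
        (ComplexShape.up ℕ)).app R.cocomplex ≫ (Γ.mapHomologicalComplex (ComplexShape.up ℕ)).map f :=
    HomologicalComplex.hom_ext _ _ fun _ => rfl
  rw [e, HomologicalComplex.homologyMap_comp]
  have : IsIso (Functor.whiskerLeft (resTo Z g o) (CompactSub.bcFibre c (str Z g o) s hy)) := inferInstance
  have : IsIso ((NatTrans.mapHomologicalComplex (Functor.whiskerLeft (resTo Z g o) (CompactSub.bcFibre c (str Z g o) s hy))
        (ComplexShape.up ℕ)).app R.cocomplex) := by
    have : ∀ i, IsIso (((NatTrans.mapHomologicalComplex (Functor.whiskerLeft (resTo Z g o)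
        (CompactSub.bcFibre c (str Z g o) s hy)) (ComplexShape.up ℕ)).app R.cocomplex).f i) := fun i =>
      inferInstanceAs (IsIso ((Functor.whiskerLeft (resTo Z g o) (CompactSub.bcFibre c (str Z g o) s hy)).app
        (R.cocomplex.X i)))
    exact HomologicalComplex.Hom.isIso_of_components _
  exact IsIso.comp_isIso

end Groth.Agent.ProperDescent
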