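import Groth.Agent.SiteBase.ProperDescent.Rows

/-!
# The augmentation of the rows and flasqueness of their degree zero homology
-/

set_option autoImplicit false
set_option linter.unusedSectionVars false
set_option backward.isDefEq.respectTransparency false

universe u

open CategoryTheory CategoryTheory.Limits Opposite Simplicial TopologicalSpace AlgebraicTopology
open Groth.Agent.DescentSS

noncomputable section

namespace Groth.Agent.ProperDescent

variable {X S : TopCat.{u}} (f : X ⟶ S)

local notation "EZ" => extZ (powZ f) (powG f)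
local notation "EG" => extG (powZ f) (powG f)

instance preservesFiniteLimits_push' {A B : TopCat.{u}} (g : A ⟶ B) : PreservesFiniteLimits (CohTop.push g) :=
  haveI : PreservesLimitsOfSize.{0, 0} (CohTop.push g) :=
    (TopCat.Sheaf.pullbackPushforwardAdjunction AddCommGrpCat.{u} g).rightAdjoint_preservesLimits
  inferInstance

instance preservesFiniteLimits_eRow : PreservesFiniteLimits (eRow f) where
  preservesFiniteLimits J _ _ := HomologicalComplex.preservesLimitsOfShape_of_eval _ fun n => by
    have : PreservesFiniteLimits (termF f n) := comp_preservesFiniteLimits _ _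
    exact inferInstanceAs (PreservesLimitsOfShape J (termF f n))

/-- The restriction to the base. -/
abbrev resN : Sheaf (pTop f) AddCommGrpCat.{u} ⥤ CohTop.Ab S := resTo EZ EG none

/-- Degree zero homology of the rows. -/
abbrev rowH0 : Sheaf (pTop f) AddCommGrpCat.{u} ⥤ CohTop.Ab S :=
  eRow f ⋙ HomologicalComplex.homologyFunctor (CohTop.Ab S) (ComplexShape.up ℕ) 0

instance preservesFiniteLimits_rowH0 : PreservesFiniteLimits (rowH0 f) :=
  haveI := SpObjSS.preservesFiniteLimits_hZero (𝟭 (CochainComplex (CohTop.Ab S) ℕ)) fun S hS => hS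
  haveI : PreservesFiniteLimits (HomologicalComplex.homologyFunctor (CohTop.Ab S) (ComplexShape.up ℕ) 0) :=
    preservesFiniteLimits_of_natIso (Functor.leftUnitor _)
  comp_preservesFiniteLimits _ _

/-- Morphisms into the base member are unique. -/
lemma hom_ext_none {c : PExt f} {U : Opens S} (a b : c ⟶ mkObj EZ EG none U) : a = b :=
  opn_hom_ext EZ EG fun z => (fn_w EZ EG a z).trans (fn_w EZ EG b z).symm

/-- The augmentation. -/
def eps : resN f ⟶ termF f 0 where
  app I := ⟨{
    app := fun V => I.obj.map (eAug f V.unop).op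
    naturality := fun V W k => by
      refine (I.obj.map_comp _ _).symm.trans (Eq.trans ?_ (I.obj.map_comp _ _))
      exact congrArg (fun t => I.obj.map (Quiver.Hom.op t)) (hom_ext_none f _ _) }⟩
  naturality I I' a := Sheaf.hom_ext (NatTrans.ext (funext fun V => (a.hom.naturality _).symm))

variable (I : Sheaf (pTop f) AddCommGrpCat.{u})

lemma eps_d : (eps f).app I ≫ ((eRow f).obj I).d 0 1 = 0 := by
  refine Sheaf.hom_ext (NatTrans.ext (funext fun V => ?_))
  refine Eq.trans ?_ (aug_d (eNerve f V.unop) (eAug f V.unop) (eAug_w f V.unop) I.obj)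
  exact congrArg (I.obj.map (eAug f V.unop).op ≫ ·) (eRow_d f I V.unop 0)

/-- The augmentation into homology. -/
def epsH : resN f ⟶ rowH0 f where
  app I := ((eRow f).obj I).liftCycles ((eps f).app I) 1 (by simp) (eps_d f I) ≫ ((eRow f).obj I).homologyπ 0
  naturality I I' a := by
    show (resN f).map a ≫ ((eRow f).obj I').liftCycles ((eps f).app I') 1 (by simp) (eps_d f I') ≫ ((eRow f).obj I').homologyπ 0 =
      (((eRow f).obj I).liftCycles ((eps f).app I) 1 (by simp) (eps_d f I) ≫ ((eRow f).obj I).homologyπ 0) ≫
        HomologicalComplex.homologyMap ((eRow f).map a) 0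
    rw [Category.assoc, HomologicalComplex.homologyπ_naturality, HomologicalComplex.liftCycles_comp_cyclesMap_assoc,
      HomologicalComplex.comp_liftCycles_assoc]
    congr 1
    rw [← cancel_mono (((eRow f).obj I').iCycles 0), HomologicalComplex.liftCycles_i, HomologicalComplex.liftCycles_i]
    exact (eps f).naturality a

/-- Cocycles of injective presheaves on the nerve come from the base. -/
theorem exists_aug_eq (P : (PExt f)ᵒᵖ ⥤ AddCommGrpCat.{u}) [Injective P] (V : Opens S)
    (x : P.obj (op ((eNerve f V) _⦋0⦌)))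
    (hx : (P.map ((eNerve f V).δ (0 : Fin 2)).op).hom x = (P.map ((eNerve f V).δ (1 : Fin 2)).op).hom x) :
    ∃ y, (P.map (eAug f V).op).hom y = x := by
  classical
  obtain ⟨Q, -, i, r, hir⟩ := SiteBase.exists_retract_cofreeFam P
  let x' := (i.app (op ((eNerve f V) _⦋0⦌))).hom x
  have hx' : ((SiteBase.cofreeFam Q).map ((eNerve f V).δ (0 : Fin 2)).op).hom x' =
      ((SiteBase.cofreeFam Q).map ((eNerve f V).δ (1 : Fin 2)).op).hom x' :=
    (ConcreteCategory.congr_hom (i.naturality _).symm x).trans
      ((congrArg (i.app _).hom hx).trans (ConcreteCategory.congr_hom (i.naturality _) x))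
  let y' : (SiteBase.cofreeFam Q).obj (op ((Φ f).obj (baseObj f V))) :=
    (fun T _ => if h : Nonempty (T ⟶ (eNerve f V) _⦋0⦌) then ev Q T (Classical.choice h) x' else 0 :
      ∀ T : PExt f, (T ⟶ (Φ f).obj (baseObj f V)) → Q T)
  refine ⟨(r.app _).hom y', ?_⟩
  have hy : ((SiteBase.cofreeFam Q).map (eAug f V).op).hom y' = x' := funext₂ fun T φ => by
    show ev Q T (φ ≫ eAug f V) y' = ev Q T φ x'
    have h : Nonempty (T ⟶ (eNerve f V) _⦋0⦌) := ⟨φ⟩
    show (if h : Nonempty (T ⟶ (eNerve f V) _⦋0⦌) then ev Q T (Classical.choice h) x' else 0) = ev Q T φ x'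
    rw [dif_pos h]
    let ψ := Classical.choice h
    let w : T ⟶ (eNerve f V) _⦋1⦌ := eInto f V (Fin.cons (coord f ψ 0) fun _ => coord f φ 0)
      (fun i z => by
        induction i using Fin.cases with
        | zero => exact f_coord f ψ 0 z
        | succ i => exact f_coord f φ 0 z)
      (fun z => (ptStr f φ z) ▸ (fn EZ EG φ z).2)
    have w0 : w ≫ (eNerve f V).δ (0 : Fin 2) = φ := hom_ext_coord f fun i => by
      refine (coord_map_reidx f (SimplexCategory.δ (0 : Fin 2)).toOrderHom w i).trans ?_
      refine (coord_eInto f V _ _ _ _).trans ?_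
      show (Fin.cons _ _ : Fin 2 → _) ((0 : Fin 2).succAbove i) = _
      rw [Fin.succAbove_zero, Fin.cons_succ]
      exact congrArg (coord f φ) (Fin.fin_one_eq_zero i).symm
    have w1 : w ≫ (eNerve f V).δ (1 : Fin 2) = ψ := hom_ext_coord f fun i => by
      refine (coord_map_reidx f (SimplexCategory.δ (1 : Fin 2)).toOrderHom w i).trans ?_
      refine (coord_eInto f V _ _ _ _).trans ?_
      show (Fin.cons _ _ : Fin 2 → _) ((1 : Fin 2).succAbove i) = _
      rw [show (1 : Fin 2).succAbove i = 0 by fin_cases i; rfl, Fin.cons_zero]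
      exact congrArg (coord f ψ) (Fin.fin_one_eq_zero i).symm
    have e := congrArg (ev Q T w) hx'
    rw [ev_map, ev_map, w0, w1] at e
    exact e.symm
  refine (ConcreteCategory.congr_hom (r.naturality _) y').symm.trans ?_
  exact (congrArg (r.app _).hom hy).trans (ConcreteCategory.congr_hom (congrArg (fun t => t.app _) hir) x)

lemma surjective_epsH_app [Injective I] (V : Opens S) :
    Function.Surjective ((DescentSS.secFun S V).map ((epsH f).app I)).hom := by
  have : Injective I.obj :=
    (sheafificationAdjunction (pTop f) AddCommGrpCat.{u}).map_injective I ‹_›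
  let K := (eRow f).obj I
  have hπ : Function.Surjective ((DescentSS.secFun S V).map (K.homologyπ 0)).hom :=
    ((ConcreteCategory.isIso_iff_bijective _).1 inferInstance).2
  intro c
  obtain ⟨z, rfl⟩ := hπ c
  have : PreservesFiniteLimits (DescentSS.secFun S V) := inferInstance
  have hinj : Function.Injective ((DescentSS.secFun S V).map (K.iCycles 0)).hom :=
    (AddCommGrpCat.mono_iff_injective _).1 inferInstance
  let x := ((DescentSS.secFun S V).map (K.iCycles 0)).hom z
  have hd : ((DescentSS.secFun S V).map (K.d 0 1)).hom x = 0 := by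
    refine (ConcreteCategory.congr_hom ((DescentSS.secFun S V).map_comp (K.iCycles 0) (K.d 0 1)).symm z).trans ?_
    rw [K.iCycles_d, Functor.map_zero]
    rfl
  have hx : (((cx (eNerve f V)).obj I.obj).d 0 1).hom x = 0 :=
    (ConcreteCategory.congr_hom (eRow_d f I V 0).symm x).trans hd
  rw [cx_d_apply, Fin.sum_univ_two] at hx
  simp only [Fin.val_zero, pow_zero, one_smul, Fin.val_one, pow_one, neg_smul] at hx
  obtain ⟨y, hy⟩ := exists_aug_eq f I.obj V x (eq_of_sub_eq_zero ((sub_eq_add_neg _ _).trans hx))
  refine ⟨y, ?_⟩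
  let l := K.liftCycles ((eps f).app I) 1 (by simp) (eps_d f I)
  refine (ConcreteCategory.congr_hom ((DescentSS.secFun S V).map_comp l (K.homologyπ 0)) y).trans ?_
  refine congrArg ((DescentSS.secFun S V).map (K.homologyπ 0)).hom (hinj ?_)
  refine (ConcreteCategory.congr_hom ((DescentSS.secFun S V).map_comp l (K.iCycles 0)).symm y).trans ?_
  refine Eq.trans ?_ hy
  exact ConcreteCategory.congr_hom (congrArg (fun t => (DescentSS.secFun S V).map t)
    (K.liftCycles_i ((eps f).app I) 1 (by simp) (eps_d f I))) y

/-- Degree zero homology of the rows of an injective sheaf is flasque. -/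
theorem isFlasque_rowH0 [Injective I] : TopCat.Sheaf.IsFlasque ((rowH0 f).obj I) where
  epi {U V} i := by
    rw [AddCommGrpCat.epi_iff_surjective]
    intro c
    obtain ⟨y, rfl⟩ := surjective_epsH_app f I V.unop c
    have hfl := isFlasque_resTo EZ EG none I
    obtain ⟨y₀, rfl⟩ := (AddCommGrpCat.epi_iff_surjective _).1 (hfl.epi i) y
    exact ⟨(((epsH f).app I).hom.app U).hom y₀,
      (ConcreteCategory.congr_hom (((epsH f).app I).hom.naturality i) y₀).symm⟩

end Groth.Agent.ProperDescent
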