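import Groth.Agent.SiteBase.DescentSS.Nerve
import Groth.Agent.SiteBase.CompactSub.Extend
import Mathlib.Topology.Maps.Proper.Basic

/-!
# Fibre powers of proper separated maps
-/

set_option autoImplicit false
set_option linter.unusedSectionVars false
set_option backward.isDefEq.respectTransparency false

universe u

open CategoryTheory CategoryTheory.Limits Topology Filter
open Groth.Agent.DescentSS

noncomputable section

namespace Groth.Agent.ProperDescent

variable {X S : TopCat.{u}} (f : X ⟶ S)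

/-- Fibre powers of a proper map are proper. -/
theorem isProperMap_powG (hf : IsProperMap f) (n : ℕ) : IsProperMap (powG f ⟨n⟩) := by
  rw [isProperMap_iff_ultrafilter]
  refine ⟨(powG f ⟨n⟩).hom.continuous, fun 𝒰 s h => ?_⟩
  have hi : ∀ i : Fin (n + 1), ∃ x, f x = s ∧ Tendsto (prj f i) (𝒰 : Filter (powX f n)) (𝓝 x) := fun i => by
    have ht : Tendsto f ((𝒰.map (prj f i) : Ultrafilter X) : Filter X) (𝓝 s) := by
      rw [Ultrafilter.coe_map, tendsto_map'_iff]
      exact h.congr fun y => (f_prj f i y).symm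
    exact hf.ultrafilter_le_nhds_of_tendsto ht
  choose x hx hlim using hi
  let y : powX f n :=
    WidePullback.lift (TopCat.ofHom ⟨fun _ => s, continuous_const⟩ : TopCat.of PUnit.{u + 1} ⟶ S)
      (fun i => TopCat.ofHom ⟨fun _ => x i, continuous_const⟩)
      (fun i => TopCat.hom_ext (ContinuousMap.ext fun _ => hx i)) PUnit.unit
  have hy : ∀ i, prj f i y = x i := fun i =>
    ConcreteCategory.congr_hom (WidePullback.lift_π (arrows := fun _ : Fin (n + 1) => f)
      (TopCat.ofHom ⟨fun _ => s, continuous_const⟩ : TopCat.of PUnit.{u + 1} ⟶ S)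
      (fun i => TopCat.ofHom ⟨fun _ => x i, continuous_const⟩)
      (fun i => TopCat.hom_ext (ContinuousMap.ext fun _ => hx i)) i) PUnit.unit
  have hb : powG f ⟨n⟩ y = s := by rw [← f_prj f 0 y, hy, hx]
  refine ⟨y, hb, ?_⟩
  rw [show (powX f n).str = _ from TopCat.limit_topology (WidePullbackShape.wideCospan S (fun _ : Fin (n + 1) => X) fun _ => f),
    nhds_iInf]
  refine le_iInf fun j => ?_
  rw [nhds_induced]
  refine map_le_iff_le_comap.1 ?_
  rcases j with _ | i
  · exact le_of_le_of_eq h (congrArg 𝓝 hb.symm)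
  · exact le_of_le_of_eq (hlim i) (congrArg 𝓝 (hy i).symm)

/-- Their fibres are relatively Hausdorff. -/
theorem relHaus_powG
    (hs : ∀ x x' : X, f x = f x' → x ≠ x' → ∃ U V : Set X, IsOpen U ∧ IsOpen V ∧ x ∈ U ∧ x' ∈ V ∧ Disjoint U V)
    (n : ℕ) (s : S) : CompactSub.RelHaus ((powG f ⟨n⟩) ⁻¹' {s}) := by
  intro y hy y' hy' hne
  obtain ⟨i, hi⟩ : ∃ i, prj f i y ≠ prj f i y' := by
    by_contra hc
    exact hne (pow_ext f fun i => not_not.1 fun h => hc ⟨i, h⟩)
  obtain ⟨U, V, hU, hV, hxU, hxV, hd⟩ := hs _ _ (((f_prj f i y).trans hy).trans ((f_prj f i y').trans hy').symm) hi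
  exact ⟨prj f i ⁻¹' U, prj f i ⁻¹' V, hU.preimage (WidePullback.π (fun _ : Fin (n + 1) => f) i).hom.continuous,
    hV.preimage (WidePullback.π (fun _ : Fin (n + 1) => f) i).hom.continuous, hxU, hxV, hd.preimage _⟩

end Groth.Agent.ProperDescent
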