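import Groth.Agent.SiteBase.ProperDescent.FibreRows
import Groth.Agent.SiteBase.ProperDescent.Augment
import Groth.Agent.SiteBase.ProperDescent.Proper
import Groth.Agent.H9Misc.SSBasic

/-!
# The descent spectral sequence of a proper separated surjection
-/

set_option autoImplicit false
set_option linter.unusedSectionVars false
set_option linter.unusedVariables false
set_option backward.isDefEq.respectTransparency false

universe u

open CategoryTheory CategoryTheory.Limits Opposite Simplicial TopologicalSpace AlgebraicTopology Topology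
open Groth.Agent.DescentSS
open Groth.Agent.DescentSS.Germ (gm gm_res)

noncomputable section

namespace Groth.Agent.ProperDescent

section General

/-- An abutment of a first quadrant sequence without terms in a total degree vanishes there. -/
theorem isZero_abutment {C : Type*} [Category C] [Abelian C] {r₀ : ℤ} (E : CohomologicalSpectralSequence C r₀)
    {H : ℤ → C} (a : SpSeq.Abutment E H) (n : ℤ) (hfin : a.IsFinite n)
    (h : ∀ p, IsZero ((E.page r₀ le_rfl).X (p, n - p))) : IsZero (H n) := by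
  obtain ⟨⟨lo, hlo⟩, ⟨hi, hhi⟩⟩ := hfin
  change a.fil n lo = ⊤ at hlo
  change a.fil n hi = ⊥ at hhi
  have key : ∀ (m : ℤ), m = n → ∀ p q, p + q = m → IsZero (SpSeq.grPiece (a.fil m) (a.anti m) p) := by
    intro m hm p q hpq
    subst hpq
    refine IsZero.of_iso ?_ (a.β (p, q)).symm
    exact H9Misc.SSBasic.isZero_le E r₀ _ le_rfl (a.stat (p, q)).1 (p, q)
      (by have := h p; rwa [show n - p = q by lia] at this)
  have hgr : ∀ p, IsZero (SpSeq.grPiece (a.fil n) (a.anti n) p) := fun p => key n rfl p (n - p) (by lia)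
  have hc : a.fil n (max lo hi) = a.fil n lo :=
    (H9Misc.SSBasic.const_of_isZero_gr _ (a.anti n) lo (max lo hi) (le_max_left _ _) fun p _ _ => hgr p).symm
  have htb : (⊤ : Subobject (H n)) = ⊥ := by
    refine le_antisymm ?_ bot_le
    rw [← hlo, ← hc, ← hhi]
    exact a.anti n (le_max_right _ _)
  have htop : IsIso (⊤ : Subobject (H n)).arrow := inferInstance
  rw [IsZero.iff_id_eq_zero, ← cancel_epi (⊤ : Subobject (H n)).arrow, comp_zero, Category.comp_id, htb]
  exact Subobject.bot_arrow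

lemma isIso_of_eval {K L : CochainComplex (CochainComplex AddCommGrpCat.{u} ℕ) ℕ} (φ : K ⟶ L) (q : ℕ)
    (h : ∀ n, IsIso (HomologicalComplex.homologyMap
      (((HomologicalComplex.eval AddCommGrpCat.{u} (ComplexShape.up ℕ) n).mapHomologicalComplex (ComplexShape.up ℕ)).map φ) q)) :
    IsIso (HomologicalComplex.homologyMap φ q) := by
  have : ∀ n, IsIso ((HomologicalComplex.homologyMap φ q).f n) := fun n => by
    let ev := HomologicalComplex.eval AddCommGrpCat.{u} (ComplexShape.up ℕ) n
    let φ' := (HomologicalComplex.shortComplexFunctor (CochainComplex AddCommGrpCat.{u} ℕ) (ComplexShape.up ℕ) q).map φ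
    have e := ShortComplex.mapHomologyIso_hom_naturality φ' ev
    have hi : IsIso (ShortComplex.homologyMap (ev.mapShortComplex.map φ')) := h n
    have hc : IsIso (((K.sc q).mapHomologyIso ev).hom ≫ ev.map (ShortComplex.homologyMap φ')) :=
      (congrArg (fun t => IsIso t) e).mp (IsIso.comp_isIso' hi inferInstance)
    exact @IsIso.of_isIso_comp_left _ _ _ _ _ ((K.sc q).mapHomologyIso ev).hom
      (ev.map (ShortComplex.homologyMap φ')) inferInstance hc
  exact HomologicalComplex.Hom.isIso_of_components _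

lemma isZero_of_stalks {X : TopCat.{u}} (A : CohTop.Ab X) (h : ∀ x, IsZero ((ClosedEmb.stalkF x).obj A)) :
    IsZero A := by
  have : ∀ x, IsIso ((ClosedEmb.stalkF x).map (0 : A ⟶ A)) := fun x =>
    ⟨0, (h x).eq_of_src _ _, (h x).eq_of_src _ _⟩
  have := isIso_of_stalkF (0 : A ⟶ A) this
  rw [IsZero.iff_id_eq_zero, ← IsIso.inv_hom_id (0 : A ⟶ A), comp_zero]

lemma subsingleton_H_of_subsingleton {W : TopCat.{u}} [Subsingleton W] (G : CohTop.Ab W) (n : ℕ) :
    Subsingleton (CohTop.H G (n + 1)) := by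
  have : TopCat.Sheaf.IsFlasque G := ⟨fun {U V} i => by
    rw [AddCommGrpCat.epi_iff_surjective]
    intro x
    by_cases hV : V.unop = ⊥
    · have := AddCommGrpCat.subsingleton_of_isZero (TopCat.Sheaf.isTerminalOfEqEmpty G hV).isZero
      exact ⟨0, this.elim _ _⟩
    · obtain ⟨y, hy⟩ : ∃ y, y ∈ V.unop := by
        by_contra hc
        exact hV (Opens.ext (Set.eq_empty_iff_forall_notMem.2 fun y hy => hc ⟨y, hy⟩))
      have hUV : U = V := Opposite.unop_injective
        (le_antisymm (fun z _ => Subsingleton.elim y z ▸ hy) i.unop.le)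
      subst hUV
      refine ⟨x, ?_⟩
      rw [show i = 𝟙 U from Subsingleton.elim _ _, G.obj.map_id]
      rfl⟩
  exact SiteBase.subsingleton_H_of_isFlasque G n

/-- Inverse image along the identity. -/
theorem nonempty_pull_id_iso {S : TopCat.{u}} (F : CohTop.Ab S) : Nonempty ((CohTop.pull (𝟙 S)).obj F ≅ F) :=
  ⟨((TopCat.Sheaf.pullbackPushforwardAdjunction AddCommGrpCat.{u} (𝟙 S)).leftAdjointUniq
    (Adjunction.id.ofNatIsoRight (Iso.refl _))).app F⟩

variable {S : TopCat.{u}} {ι : Type u} (Z : ι → TopCat.{u}) (g : ∀ i, Z i ⟶ S)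
variable {o o' : Option ι} (c : sp (S := S) Z o' ⟶ sp (S := S) Z o) (w : ∀ z, str Z g o (c z) = str Z g o' z)
  (s : S) (hs : ∀ z, str Z g o' z = s)

/-- On sheaves from the base the comparison with the fibre is an isomorphism. -/
theorem isIso_lam_app (hc : IsEmbedding c) (hrange : str Z g o ⁻¹' {s} ⊆ Set.range c)
    (hf : IsProperMap (str Z g o)) (hr : CompactSub.RelHaus (str Z g o ⁻¹' {s})) (F : CohTop.Ab S) :
    IsIso ((lam Z g c w s hs).app ((fromBase Z g).obj F)) := by
  have hy : ∀ z, str Z g o (c z) = s := fun z => (w z).trans (hs z)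
  have : CompactSpace (sp (S := S) Z o') := by
    have h1 : IsCompact (Set.range c) := by
      rw [Set.Subset.antisymm (by rintro _ ⟨z, rfl⟩; exact hy z) hrange]
      exact hf.isCompact_preimage isCompact_singleton
    exact ⟨hc.isInducing.isCompact_iff.2 (by rwa [Set.image_univ])⟩
  have := CompactSub.isIso_bcFibre c (str Z g o) s hy hf.isClosedMap hrange hc
    (hf.isCompact_preimage isCompact_singleton) hr
  have := isIso_beta Z g c w F
  show IsIso ((CompactSub.bcFibre c (str Z g o) s hy).app ((resTo Z g o).obj ((fromBase Z g).obj F)) ≫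
    (DescentSS.secFun (sp (S := S) Z o') ⊤).map ((beta Z g c w).app ((fromBase Z g).obj F)))
  infer_instance

end General

variable {X S : TopCat.{u}} (f : X ⟶ S)

local notation "EZ" => extZ (powZ f) (powG f)
local notation "EG" => extG (powZ f) (powG f)

/-- The index of a fibre. -/
abbrev fIdx (o : Option (ULift.{u} ℕ)) (s : S) : Option (extι (S := S) (ι := ULift.{u} ℕ)) := some (Sum.inr (o, s))

/-- The inclusion of the fibre of the base. -/
abbrev nInc (s : S) : sp (S := S) EZ (fIdx none s) ⟶ sp (S := S) EZ none :=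
  CompactSub.incl (fibre (powZ f) (powG f) none s)

lemma nInc_w (s : S) (z : sp (S := S) EZ (fIdx none s)) :
    str EZ EG none (nInc f s z) = str EZ EG (fIdx none s) z := rfl

/-- The comparison at the base. -/
def lamN (s : S) : resN f ⋙ ClosedEmb.stalkF s ⟶
    resTo EZ EG (fIdx none s) ⋙ DescentSS.secFun (sp (S := S) EZ (fIdx none s)) ⊤ :=
  lam EZ EG (nInc f s) (nInc_w f s) s (fun z => z.2)

lemma lamN_comm (s : S) (I : Sheaf (pTop f) AddCommGrpCat.{u}) :
    (ClosedEmb.stalkF s).map ((eps f).app I) ≫ (lamP f s 0).app I =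
      (lamN f s).app I ≫ I.obj.map (fibAug f s).op := by
  refine TopCat.Presheaf.stalk_hom_ext _ fun V hV => ?_
  refine AddCommGrpCat.hom_ext (AddMonoidHom.ext fun t => ?_)
  show ((lamP f s 0).app I).hom (CompactSub.stMap ((eps f).app I) s (gm ((resN f).obj I) s hV t)) =
    (I.obj.map _).hom (((lamN f s).app I).hom (gm ((resN f).obj I) s hV t))
  rw [CompactSub.stMap_gm]
  refine (lam_gm EZ EG (fInc f s 0) (fInc_w f s 0) s (fun z => z.2) I hV _).trans ?_
  refine Eq.trans ?_ (congrArg (I.obj.map (fibAug f s).op).hom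
    (lam_gm EZ EG (nInc f s) (nInc_w f s) s (fun z => z.2) I hV t)).symm
  refine (ConcreteCategory.congr_hom (I.obj.map_comp _ _).symm t).trans ?_
  refine Eq.trans ?_ (ConcreteCategory.congr_hom (I.obj.map_comp _ _) t)
  exact congrArg (fun q => (I.obj.map (Quiver.Hom.op q)).hom t) (hom_ext_none f _ _)

variable (hf : IsProperMap f)
  (hs : ∀ x x' : X, f x = f x' → x ≠ x' → ∃ U V : Set X, IsOpen U ∧ IsOpen V ∧ x ∈ U ∧ x' ∈ V ∧ Disjoint U V)
  (F : CohTop.Ab S)

/-- The sheaf pulled back to the site. -/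
abbrev gF : Sheaf (pTop f) AddCommGrpCat.{u} := (fromBase EZ EG).obj F

include hf hs in
lemma isIso_lamP (s : S) (n : ℕ) : IsIso ((lamP f s n).app (gF f F)) :=
  isIso_lam_app EZ EG (fInc f s n) (fInc_w f s n) s (fun z => z.2) IsEmbedding.subtypeVal
    (fun z hz => ⟨⟨z, hz⟩, rfl⟩) (isProperMap_powG f hf n) (relHaus_powG f hs n s) F

lemma isIso_lamN (s : S) : IsIso ((lamN f s).app (gF f F)) :=
  isIso_lam_app EZ EG (nInc f s) (nInc_w f s) s (fun z => z.2) IsEmbedding.subtypeVal
    (fun z hz => ⟨⟨z, hz⟩, rfl⟩) (show IsProperMap (id : S → S) from (Homeomorph.refl S).isProperMap)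
    (fun x (hx : x = s) y (hy : y = s) hxy => absurd (hx.trans hy.symm) hxy) F

variable (hsurj : Function.Surjective f)

include hf hs hsurj in
/-- The augmentation is an isomorphism on sheaves from the base. -/
theorem isIso_epsH : IsIso ((epsH f).app (gF f F)) := by
  refine isIso_of_stalkF _ fun s => ?_
  obtain ⟨x₀, hx₀⟩ := hsurj s
  let G : Sheaf (pTop f) AddCommGrpCat.{u} := (gF f F)
  let K := (eRow f).obj G
  let st := ClosedEmb.stalkF s
  let l := K.liftCycles ((eps f).app G) 1 (by simp) (eps_d f G)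
  have : IsIso (st.map l) := by
    let Kst := (stCx f s).obj G
    let Kfb := (fbCx f s).obj G
    let Λ : Kst ⟶ Kfb := (Lam f s).app G
    have : ∀ n, IsIso (Λ.f n) := fun n => isIso_lamP f hf hs F s n
    have : IsIso Λ := HomologicalComplex.Hom.isIso_of_components Λ
    have : IsIso (HomologicalComplex.cyclesMap Λ 0) :=
      inferInstanceAs (IsIso ((HomologicalComplex.cyclesFunctor AddCommGrpCat.{u} (ComplexShape.up ℕ) 0).map Λ))
    let la := Kfb.liftCycles (G.obj.map (fibAug f s).op) 1 (by simp) (aug_d (fibN f s) (fibAug f s) (fibAug_w f s) G.obj)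
    have hr := (rowExact_fibN f s x₀ hx₀ G.obj).isIso_augH0 (fibN f s) (fibAug f s) (fibAug_w f s)
    have : IsIso (la ≫ Kfb.homologyπ 0) := hr
    have : IsIso la := IsIso.of_isIso_comp_right la (Kfb.homologyπ 0)
    have := isIso_lamN f F s
    let c := inv (CompareSit.cyc st K 0) ≫ HomologicalComplex.cyclesMap Λ 0
    have key : st.map l ≫ c = (lamN f s).app G ≫ la := by
      rw [← cancel_mono (Kfb.iCycles 0)]
      show (st.map l ≫ inv (CompareSit.cyc st K 0) ≫ HomologicalComplex.cyclesMap Λ 0) ≫ _ = ((lamN f s).app G ≫ la) ≫ _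
      simp only [Category.assoc]
      rw [HomologicalComplex.cyclesMap_i, HomologicalComplex.liftCycles_i]
      refine Eq.trans ?_ (lamN_comm f s G)
      refine Eq.trans ?_ (congrArg (· ≫ (lamP f s 0).app G) (congrArg st.map (K.liftCycles_i ((eps f).app G) 1 (by simp) (eps_d f G))))
      refine Eq.trans ?_ (congrArg (· ≫ (lamP f s 0).app G) (st.map_comp l (K.iCycles 0))).symm
      refine Eq.trans ?_ (Category.assoc _ _ _).symm
      refine congrArg (st.map l ≫ ·) ?_
      rw [IsIso.inv_comp_eq, ← Category.assoc]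
      exact congrArg (· ≫ (lamP f s 0).app G) (CompareSit.cyc_i st K 0).symm
    have : IsIso (st.map l ≫ c) := by rw [key]; infer_instance
    exact IsIso.of_isIso_comp_right (st.map l) c
  show IsIso (st.map (l ≫ K.homologyπ 0))
  rw [Functor.map_comp]
  infer_instance

variable (R : InjectiveResolution (gF f F))

include hf hs in
/-- Derived functors of the stalks of the rows are cohomology of the fibres. -/
theorem nonempty_rightDerived_stCx_iso (s : S) (q : ℕ) :
    Nonempty (((stCx f s).rightDerived q).obj (gF f F) ≅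
      (cx (fibN f s)).obj (((sheafToPresheaf (pTop f) AddCommGrpCat.{u}).rightDerived q).obj (gF f F))) := by
  let R := injectiveResolution (gF f F)
  let φ := (NatTrans.mapHomologicalComplex (Lam f s) (ComplexShape.up ℕ)).app R.cocomplex
  have : IsIso (HomologicalComplex.homologyMap φ q) := isIso_of_eval φ q fun n =>
    isIso_homologyMap_lam EZ EG (fInc f s n) (fInc_w f s n) s (fun z => z.2) IsEmbedding.subtypeVal
      (fun z hz => ⟨⟨z, hz⟩, rfl⟩) (isProperMap_powG f hf n) (relHaus_powG f hs n s) F R q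
  exact ⟨R.isoRightDerivedObj (stCx f s) q ≪≫ asIso (HomologicalComplex.homologyMap φ q) ≪≫
    (R.isoRightDerivedObj (fbCx f s) q).symm ≪≫
    (SiteBase.rightDerivedCompIso (sheafToPresheaf (pTop f) AddCommGrpCat.{u}) (cx (fibN f s)) q).app (gF f F)⟩

lemma isZero_presheaf_fObj_none (s : S) (G : Sheaf (pTop f) AddCommGrpCat.{u}) (q : ℕ) :
    IsZero ((((sheafToPresheaf (pTop f) AddCommGrpCat.{u}).rightDerived (q + 1)).obj G).obj (op (fObj f s none))) := by
  refine IsZero.of_iso ?_ (((evaluation (PExt f)ᵒᵖ AddCommGrpCat.{u}).obj (op (fObj f s none))).mapIso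
    ((SiteBase.rightDerivedIsoCohomology (q + 1)).app G))
  obtain ⟨e⟩ := nonempty_HU_resTo EZ EG (fIdx none s) ⊤ G (q + 1)
  have : Subsingleton (sp (S := S) EZ (fIdx none s)) := ⟨fun a b => Subtype.ext (a.2.trans b.2.symm)⟩
  have := subsingleton_H_of_subsingleton ((resTo EZ EG (fIdx none s)).obj G) q
  have : Subsingleton (CohSite.HU G (q + 1) (fObj f s none)) :=
    (e.symm.trans (SiteBase.huTerminalEquiv isTerminalTop ((resTo EZ EG (fIdx none s)).obj G) (q + 1))).toEquiv.subsingleton
  exact AddCommGrpCat.isZero_of_subsingleton (AddCommGrpCat.of (CohSite.HU G (q + 1) (fObj f s none)))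

include hf hs hsurj in
/-- The stalks of the rows are acyclically resolved. -/
theorem isZero_rightDerived_stalk (s : S) (n : ℕ) :
    IsZero (((stCx f s ⋙ SpObjSS.hZero (𝟭 (CochainComplex AddCommGrpCat.{u} ℕ))).rightDerived (n + 1)).obj (gF f F)) := by
  obtain ⟨x₀, hx₀⟩ := hsurj s
  let Ch := CochainComplex AddCommGrpCat.{u} ℕ
  have hid : ∀ S : ShortComplex Ch, S.ShortExact → (S.map (𝟭 Ch)).ShortExact := fun S hS => hS
  have hIc : ∀ I : Ch, Injective I → ∀ p : ℕ, ((𝟭 Ch).obj I).ExactAt (p + 1) := fun I hI p =>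
    HyperLib.exactAt_of_injective I p
  have := SpObjSS.preservesFiniteLimits_hZero (𝟭 Ch) hid
  have := CompactSub.preservesFiniteLimits_stalkF s
  have := CompactSub.preservesFiniteColimits_stalkF s
  obtain ⟨E₂, α, hfin, -, hE⟩ := SpObjSS.exists_grothendieck_spectralSequence' (stCx f s)
    (SpObjSS.hZero (𝟭 Ch)) (fun Q hQ i hi => by
      obtain ⟨j, rfl⟩ := Nat.exists_eq_succ_of_ne_zero (Nat.pos_iff_ne_zero.1 hi)
      refine IsZero.of_iso ?_ (SpObjSS.nonempty_rightDerived_hZero_iso (𝟭 Ch) hid hIc (j + 1) _).some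
      refine (HomologicalComplex.exactAt_iff_isZero_homology _ _).1 ?_
      have h := exactAt_eRow f Q j
      rw [((eRow f).obj Q).exactAt_iff' j (j + 1) (j + 1 + 1) (by simp) (by simp)] at h
      exact (HomologicalComplex.exactAt_iff' _ j (j + 1) (j + 1 + 1) (by simp) (by simp)).2
        (h.map (ClosedEmb.stalkF s)))
    (gF f F) (fun m => ((stCx f s ⋙ SpObjSS.hZero (𝟭 Ch)).rightDerived m).obj (gF f F)) (fun m => ⟨Iso.refl _⟩)
    (fun p q => (((stCx f s).rightDerived q).obj (gF f F)).homology p)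
    (fun p q => SpObjSS.nonempty_rightDerived_hZero_iso (𝟭 Ch) hid hIc p _)
    _ (AddCommGrpCat.isZero_of_subsingleton (AddCommGrpCat.of PUnit.{u + 1}))
  have h0 := isZero_abutment E₂ α ((n + 1 : ℕ) : ℤ) (hfin _) fun p => by
    obtain ⟨e⟩ := hE p (((n + 1 : ℕ) : ℤ) - p)
    refine IsZero.of_iso ?_ e
    by_cases h : 0 ≤ p ∧ 0 ≤ ((n + 1 : ℕ) : ℤ) - p
    · rw [if_pos h]
      obtain ⟨p, rfl⟩ := Int.eq_ofNat_of_zero_le h.1
      obtain ⟨e₁⟩ := nonempty_rightDerived_stCx_iso f hf hs F s (((n + 1 : ℕ) : ℤ) - (p : ℤ)).toNat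
      let P := ((sheafToPresheaf (pTop f) AddCommGrpCat.{u}).rightDerived (((n + 1 : ℕ) : ℤ) - (p : ℤ)).toNat).obj (gF f F)
      refine IsZero.of_iso ?_ ((HomologicalComplex.homologyFunctor AddCommGrpCat.{u} (ComplexShape.up ℕ)
        (Int.toNat (p : ℤ))).mapIso e₁)
      have hr := rowExact_fibN f s x₀ hx₀ P
      rcases p with _ | p
      · have := hr.isIso_augH0 (fibN f s) (fibAug f s) (fibAug_w f s)
        refine IsZero.of_iso ?_ (asIso ((augH0 (fibN f s) (fibAug f s) (fibAug_w f s)).app P)).symm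
        show IsZero (P.obj (op (fObj f s none)))
        show IsZero ((((sheafToPresheaf (pTop f) AddCommGrpCat.{u}).rightDerived
          (((n + 1 : ℕ) : ℤ) - ((0 : ℕ) : ℤ)).toNat).obj (gF f F)).obj (op (fObj f s none)))
        rw [show (((n + 1 : ℕ) : ℤ) - ((0 : ℕ) : ℤ)).toNat = n + 1 by simp]
        exact isZero_presheaf_fObj_none f s (gF f F) n
      · exact (HomologicalComplex.exactAt_iff_isZero_homology _ _).1 (hr.exact_succ p)
    · rw [if_neg h]
      exact AddCommGrpCat.isZero_of_subsingleton _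
  rwa [if_pos (Int.natCast_nonneg _), Int.toNat_natCast] at h0

include hf hs hsurj in
/-- The rows of a resolution resolve the sheaf. -/
theorem isZero_homology_rowH0 (n : ℕ) :
    IsZero ((((rowH0 f).mapHomologicalComplex (ComplexShape.up ℕ)).obj R.cocomplex).homology (n + 1)) := by
  refine isZero_of_stalks _ fun s => ?_
  let st := ClosedEmb.stalkF s
  let L := ((rowH0 f).mapHomologicalComplex (ComplexShape.up ℕ)).obj R.cocomplex
  have := CompactSub.preservesFiniteLimits_stalkF s
  let α : stCx f s ⋙ SpObjSS.hZero (𝟭 (CochainComplex AddCommGrpCat.{u} ℕ)) ≅ rowH0 f ⋙ st :=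
    Functor.isoWhiskerLeft (eRow f) (homologyZeroNatIso st)
  refine IsZero.of_iso ?_ ((L.sc (n + 1)).mapHomologyIso st).symm
  exact IsZero.of_iso (isZero_rightDerived_stalk f hf hs F hsurj s n)
    ((HomologicalComplex.homologyFunctor _ _ (n + 1)).mapIso
      ((NatIso.mapHomologicalComplex α (ComplexShape.up ℕ)).app R.cocomplex).symm ≪≫
      (R.isoRightDerivedObj _ (n + 1)).symm)

include hf hs hsurj in
theorem nonempty_homology_rowH0_zero :
    Nonempty ((((rowH0 f).mapHomologicalComplex (ComplexShape.up ℕ)).obj R.cocomplex).homology 0 ≅ F) :=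
  haveI := isIso_epsH f hf hs F hsurj
  ⟨(R.isoRightDerivedObj (rowH0 f) 0).symm ≪≫ (rowH0 f).rightDerivedZeroIsoSelf.app (gF f F) ≪≫
    (asIso ((epsH f).app (gF f F))).symm ≪≫ (resFromBase EZ EG none).app F ≪≫ (nonempty_pull_id_iso F).some⟩

include hf hs hsurj in
/-- The descent spectral sequence. -/
theorem exists_ss :
    ∃ (E : CohomologicalSpectralSequence AddCommGrpCat.{u} 1)
      (a : SpSeq.Abutment E (fun n : ℤ =>
        if 0 ≤ n then AddCommGrpCat.of (CohTop.H F n.toNat) else AddCommGrpCat.of PUnit.{u + 1})),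
      (∀ n, a.IsFinite n) ∧ SpSeq.IsBounded E ∧
      ∀ p q : ℤ, Nonempty ((E.page 1 le_rfl).X (p, q) ≅
        (if 0 ≤ p ∧ 0 ≤ q then
          AddCommGrpCat.of (CohTop.H ((CohTop.pull
            (WidePullback.base (fun _ : Fin (p.toNat + 1) => f) :
              widePullback S (fun _ : Fin (p.toNat + 1) => X) (fun _ => f) ⟶ S)).obj F) q.toNat)
         else AddCommGrpCat.of PUnit.{u + 1})) := by
  let Ch := CochainComplex AddCommGrpCat.{u} ℕ
  have hid : ∀ S : ShortComplex Ch, S.ShortExact → (S.map (𝟭 Ch)).ShortExact := fun S hS => hS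
  have hIc : ∀ I : Ch, Injective I → ∀ p : ℕ, ((𝟭 Ch).obj I).ExactAt (p + 1) := fun I hI p =>
    HyperLib.exactAt_of_injective I p
  have := SpObjSS.preservesFiniteLimits_hZero (𝟭 Ch) hid
  let T : Sheaf (pTop f) AddCommGrpCat.{u} ⥤ Ch := rowFunctor (eNerve f ⊤) (J := pTop f)
  let R := injectiveResolution (gF f F)
  let Γ := DescentSS.secFun S ⊤
  let L := ((rowH0 f).mapHomologicalComplex (ComplexShape.up ℕ)).obj R.cocomplex
  have hA : CompareSit.Acyclic Γ L := fun i p =>
    haveI := R.injective i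
    haveI := isFlasque_rowH0 f (R.cocomplex.X i)
    isZero_rightDerived_secFun _ p (SiteBase.subsingleton_H_of_isFlasque ((rowH0 f).obj (R.cocomplex.X i)) p)
  let α : T ⋙ SpObjSS.hZero (𝟭 Ch) ≅ rowH0 f ⋙ Γ :=
    Functor.isoWhiskerRight (rowSecIso f ⊤).symm (HomologicalComplex.homologyFunctor AddCommGrpCat.{u} (ComplexShape.up ℕ) 0) ≪≫
      Functor.isoWhiskerLeft (eRow f) (homologyZeroNatIso Γ)
  have eH : ∀ n, Nonempty (((T ⋙ SpObjSS.hZero (𝟭 Ch)).rightDerived n).obj (gF f F) ≅ AddCommGrpCat.of (CohTop.H F n)) := by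
    intro n
    obtain ⟨e⟩ := CompareSit.nonempty_homology_iso hA (n := n)
      (fun q _ => isZero_homology_rowH0 f hf hs F hsurj R q) n le_rfl
    obtain ⟨e0⟩ := nonempty_homology_rowH0_zero f hf hs F hsurj R
    exact ⟨R.isoRightDerivedObj (T ⋙ SpObjSS.hZero (𝟭 Ch)) n ≪≫
      (HomologicalComplex.homologyFunctor _ _ n).mapIso
        ((NatIso.mapHomologicalComplex α (ComplexShape.up ℕ)).app R.cocomplex) ≪≫ e ≪≫
      (Γ.rightDerived n).mapIso e0 ≪≫ (nonempty_rightDerived_secFun_iso F n).some⟩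
  obtain ⟨E₂, a, hfin, -, hE⟩ := SpObjSS.exists_grothendieck_spectralSequence' T
    (SpObjSS.hZero (𝟭 Ch)) (fun Q hQ i hi => by
      obtain ⟨j, rfl⟩ := Nat.exists_eq_succ_of_ne_zero (Nat.pos_iff_ne_zero.1 hi)
      refine IsZero.of_iso ?_ (SpObjSS.nonempty_rightDerived_hZero_iso (𝟭 Ch) hid hIc (j + 1) _).some
      exact (HomologicalComplex.exactAt_iff_isZero_homology _ _).1 (exactAt_eNerve f Q ⊤ j))
    (gF f F) (fun n => AddCommGrpCat.of (CohTop.H F n)) eH
    (fun p q => ((T.rightDerived q).obj (gF f F)).homology p)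
    (fun p q => SpObjSS.nonempty_rightDerived_hZero_iso (𝟭 Ch) hid hIc p _)
    _ (AddCommGrpCat.isZero_of_subsingleton (AddCommGrpCat.of PUnit.{u + 1}))
  refine exists_pageOne_of_pageTwo (fun q => (T.rightDerived q).obj (gF f F)) E₂ (fun n => AddCommGrpCat.of (CohTop.H F n)) a hfin hE
    (fun p q => AddCommGrpCat.of (CohTop.H ((CohTop.pull
      (WidePullback.base (fun _ : Fin (p + 1) => f) : powX f p ⟶ S)).obj F) q)) fun p q => ?_
  exact ⟨(HomologicalComplex.eval _ _ p).mapIso
      ((SiteBase.rightDerivedCompIso (sheafToPresheaf (pTop f) AddCommGrpCat.{u}) (cx (eNerve f ⊤)) q).app (gF f F) ≪≫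
        (cx (eNerve f ⊤)).mapIso ((SiteBase.rightDerivedIsoCohomology q).app (gF f F))) ≪≫
    (nonempty_H_pull_iso EZ EG (pIdx (S := S) p) F q).some⟩

end Groth.Agent.ProperDescent
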