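import Groth.Agent.SiteBase.DescentSS.Site
import Groth.Agent.SiteBase.CompactSub.BaseChange

/-!
# Comparing members of the site of a family
-/

set_option autoImplicit false
set_option linter.unusedSectionVars false
set_option backward.isDefEq.respectTransparency false

universe u

open CategoryTheory CategoryTheory.Limits Opposite TopologicalSpace Topology
open Groth.Agent.DescentSS
open Groth.Agent.DescentSS.Germ (gm gm_res)

noncomputable section

namespace Groth.Agent.ProperDescent

lemma isIso_of_stalkF {X : TopCat.{u}} {A B : CohTop.Ab X} (φ : A ⟶ B)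
    (h : ∀ x, IsIso ((ClosedEmb.stalkF x).map φ)) : IsIso φ := by
  have : ∀ x : X, IsIso ((TopCat.Presheaf.stalkFunctor AddCommGrpCat.{u} x).map φ.1) := h
  exact TopCat.Presheaf.isIso_of_stalkFunctor_map_iso φ

variable {S : TopCat.{u}} {ι : Type u} (Z : ι → TopCat.{u}) (g : ∀ i, Z i ⟶ S)
variable {o o' : Option ι} (c : sp (S := S) Z o' ⟶ sp (S := S) Z o) (w : ∀ z, str Z g o (c z) = str Z g o' z)

/-- The morphism over an open of the target member. -/
def memHom (W : Opens (sp (S := S) Z o)) : mkObj Z g o' ((Opens.map c).obj W) ⟶ mkObj Z g o W :=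
  mkHom Z g (TopCat.ofHom ⟨fun x => ⟨c x.1, x.2⟩, (c.hom.continuous.comp continuous_subtype_val).subtype_mk _⟩)
    fun x => w x.1

lemma memHom_nat {W W' : Opens (sp (S := S) Z o)} (h : W' ≤ W) :
    memHom Z g c w W' ≫ incl Z g o h = incl Z g o' (fun x hx => h hx) ≫ memHom Z g c w W :=
  opn_hom_ext Z g fun _ => rfl

/-- Restriction along the map of members. -/
def memAdj : resTo Z g o ⟶ resTo Z g o' ⋙ CohTop.push c where
  app G := ⟨{
    app := fun W => G.obj.map (memHom Z g c w W.unop).op
    naturality := fun W W' k => by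
      show G.obj.map _ ≫ G.obj.map _ = G.obj.map _ ≫ G.obj.map _
      refine (G.obj.map_comp _ _).symm.trans (Eq.trans ?_ (G.obj.map_comp _ _))
      exact congrArg (fun t => G.obj.map (Quiver.Hom.op t)) (memHom_nat Z g c w k.unop.le) }⟩
  naturality G G' φ := Sheaf.hom_ext (NatTrans.ext (funext fun W => (φ.hom.naturality _).symm))

/-- The comparison of inverse image and restriction. -/
def beta : resTo Z g o ⋙ CohTop.pull c ⟶ resTo Z g o' :=
  Functor.whiskerRight (memAdj Z g c w) (CohTop.pull c) ≫
    Functor.whiskerLeft (resTo Z g o') (TopCat.Sheaf.pullbackPushforwardAdjunction AddCommGrpCat.{u} c).counit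

lemma unit_beta (G : Sheaf (covers Z g) AddCommGrpCat.{u}) :
    (TopCat.Sheaf.pullbackPushforwardAdjunction AddCommGrpCat.{u} c).unit.app ((resTo Z g o).obj G) ≫
      (CohTop.push c).map ((beta Z g c w).app G) = (memAdj Z g c w).app G := by
  let adj : CohTop.pull c ⊣ CohTop.push c := TopCat.Sheaf.pullbackPushforwardAdjunction AddCommGrpCat.{u} c
  show adj.unit.app _ ≫ (CohTop.push c).map ((CohTop.pull c).map ((memAdj Z g c w).app G) ≫ adj.counit.app _) = _
  rw [Functor.map_comp]
  refine (adj.unit_naturality_assoc _ _).trans ?_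
  exact (congrArg (_ ≫ ·) (adj.right_triangle_components _)).trans (Category.comp_id _)

lemma stMap_beta_theta (G : Sheaf (covers Z g) AddCommGrpCat.{u}) {W : Opens (sp (S := S) Z o)}
    (z : sp (S := S) Z o') (hz : c z ∈ W) (t : G.obj.obj (op (mkObj Z g o W))) :
    CompactSub.stMap ((beta Z g c w).app G) z
        ((CompactSub.theta c ((resTo Z g o).obj G) z).hom (gm ((resTo Z g o).obj G) (c z) hz t)) =
      gm ((resTo Z g o').obj G) z (show z ∈ (Opens.map c).obj W from hz) ((G.obj.map (memHom Z g c w W).op).hom t) := by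
  refine (congrArg (CompactSub.stMap ((beta Z g c w).app G) z)
    (CompactSub.theta_gm (i := c) ((resTo Z g o).obj G) z hz t)).trans ?_
  refine (CompactSub.stMap_gm ((beta Z g c w).app G) z (show z ∈ (Opens.map c).obj W from hz) _).trans ?_
  exact congrArg (gm ((resTo Z g o').obj G) z (show z ∈ (Opens.map c).obj W from hz))
    (ConcreteCategory.congr_hom (congrArg (fun m => m.hom.app (op W)) (unit_beta Z g c w G)) t)

section FromBase

variable (F : CohTop.Ab S)

/-- Pulling back sections of the base. -/
def fromSec (o : Option ι) : F ⟶ (CohTop.push (str Z g o)).obj ((resTo Z g o).obj ((fromBase Z g).obj F)) :=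
  ((opnFunctor Z g none).sheafAdjunctionContinuous AddCommGrpCat.{u}
      (Opens.grothendieckTopology (sp (S := S) Z none)) (covers Z g)).unit.app F ≫
    ⟨{ app := fun V => ((fromBase Z g).obj F).obj.map (toBase Z g o V.unop).op
       naturality := fun V V' k => by
        show ((fromBase Z g).obj F).obj.map _ ≫ ((fromBase Z g).obj F).obj.map _ =
          ((fromBase Z g).obj F).obj.map _ ≫ ((fromBase Z g).obj F).obj.map _
        refine (((fromBase Z g).obj F).obj.map_comp _ _).symm.trans (Eq.trans ?_ (((fromBase Z g).obj F).obj.map_comp _ _))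
        exact congrArg (fun t => ((fromBase Z g).obj F).obj.map (Quiver.Hom.op t)) (opn_hom_ext Z g fun _ => rfl) }⟩

lemma fromSec_eq (o : Option ι) :
    fromSec Z g F o = (TopCat.Sheaf.pullbackPushforwardAdjunction AddCommGrpCat.{u} (str Z g o)).unit.app F ≫
      (CohTop.push (str Z g o)).map ((resFromBase Z g o).inv.app F) := by
  let adjC := (opnFunctor Z g none).sheafAdjunctionContinuous AddCommGrpCat.{u}
    (Opens.grothendieckTopology (sp (S := S) Z none)) (covers Z g)
  let adjK := (opnFunctor Z g o).sheafAdjunctionCocontinuous AddCommGrpCat.{u}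
    (Opens.grothendieckTopology (sp (S := S) Z o)) (covers Z g)
  haveI := NatIso.isIso_of_isIso_app (rightCmp Z g o)
  let adjA := (adjC.comp adjK).ofNatIsoRight (asIso (rightCmp Z g o))
  have h := Adjunction.unit_leftAdjointUniq_hom_app adjA
    (TopCat.Sheaf.pullbackPushforwardAdjunction AddCommGrpCat.{u} (str Z g o)) F
  have e1 : adjA.unit.app F = fromSec Z g F o := by
    refine Sheaf.hom_ext (NatTrans.ext (funext fun V => ?_))
    let G := (fromBase Z g).obj F
    have hu : adjA.unit.app F = (adjC.unit.app F ≫ (resTo Z g none).map (adjK.unit.app G)) ≫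
        (rightCmp Z g o).app ((resTo Z g o).obj G) := by
      simp [adjA, Adjunction.ofNatIsoRight, Adjunction.comp_unit_app]
      rfl
    rw [hu]
    show ((adjC.unit.app F).hom.app V ≫ (adjK.unit.app G).hom.app _) ≫
        (((resRight Z g o).obj ((resTo Z g o).obj G)).obj.map (toBase Z g o V.unop).op ≫
          (adjK.counit.app ((resTo Z g o).obj G)).hom.app (op (pre Z g o V.unop))) =
      (adjC.unit.app F).hom.app V ≫ G.obj.map (toBase Z g o V.unop).op
    rw [Category.assoc]
    refine congrArg ((adjC.unit.app F).hom.app V ≫ ·) ?_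
    refine ((adjK.unit.app G).hom.naturality_assoc (toBase Z g o V.unop).op _).symm.trans ?_
    refine Eq.trans ?_ (Category.comp_id _)
    exact congrArg (G.obj.map (toBase Z g o V.unop).op ≫ ·)
      (congrArg (fun m => m.hom.app (op (pre Z g o V.unop))) (adjK.left_triangle_components G))
  rw [← e1]
  show _ = _ ≫ (CohTop.push (str Z g o)).map ((resFromBase Z g o).inv.app F)
  refine Eq.trans ?_ (congrArg (· ≫ _) h)
  refine Eq.trans ?_ (Category.assoc _ _ _).symm
  refine Eq.trans ?_ (congrArg (adjA.unit.app F ≫ ·) ((CohTop.push (str Z g o)).map_comp _ _))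
  refine (Category.comp_id _).symm.trans (congrArg (adjA.unit.app F ≫ ·) ?_)
  refine ((CohTop.push (str Z g o)).map_id _).symm.trans (congrArg (CohTop.push (str Z g o)).map ?_)
  exact ((resFromBase Z g o).hom_inv_id_app F).symm

/-- The stalk comparison from the base. -/
def kappa (o : Option ι) (x : sp (S := S) Z o) :
    CohTop.stalk F (str Z g o x) →+ CohTop.stalk ((resTo Z g o).obj ((fromBase Z g).obj F)) x :=
  (CompactSub.stMap ((resFromBase Z g o).inv.app F) x).comp (CompactSub.theta (str Z g o) F x).hom

lemma bijective_kappa (o : Option ι) (x : sp (S := S) Z o) : Function.Bijective (kappa Z g F o x) := by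
  have : IsIso ((ClosedEmb.stalkF x).map ((resFromBase Z g o).inv.app F)) := inferInstance
  exact ((ConcreteCategory.isIso_iff_bijective _).1 this).comp (CompactSub.bijective_theta' (str Z g o) F x)

lemma kappa_gm (o : Option ι) (x : sp (S := S) Z o) {V : Opens S} (hx : str Z g o x ∈ V)
    (t : F.obj.obj (op V)) :
    kappa Z g F o x (gm F (str Z g o x) hx t) =
      gm ((resTo Z g o).obj ((fromBase Z g).obj F)) x (show x ∈ pre Z g o V from hx)
        (((fromSec Z g F o).hom.app (op V)).hom t) := by
  refine (congrArg (CompactSub.stMap ((resFromBase Z g o).inv.app F) x)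
    (CompactSub.theta_gm (i := str Z g o) F x hx t)).trans ?_
  refine (CompactSub.stMap_gm ((resFromBase Z g o).inv.app F) x (show x ∈ pre Z g o V from hx) _).trans ?_
  exact congrArg (gm ((resTo Z g o).obj ((fromBase Z g).obj F)) x (show x ∈ pre Z g o V from hx))
    (ConcreteCategory.congr_hom (congrArg (fun m => m.hom.app (op V)) (fromSec_eq Z g F o).symm) t)

/-- On sheaves from the base the comparison is an isomorphism. -/
theorem isIso_beta : IsIso ((beta Z g c w).app ((fromBase Z g).obj F)) := by
  have : ∀ z, IsIso ((ClosedEmb.stalkF z).map ((beta Z g c w).app ((fromBase Z g).obj F))) := fun z => by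
    let G := (fromBase Z g).obj F
    show IsIso ((ClosedEmb.stalkF z).map ((beta Z g c w).app G))
    rw [ConcreteCategory.isIso_iff_bijective]
    refine (Function.Bijective.of_comp_iff _
      ((CompactSub.bijective_theta' c ((resTo Z g o).obj G) z).comp (bijective_kappa Z g F o (c z)))).1 ?_
    have hw : str Z g o (c z) = str Z g o' z := w z
    have key : ∀ v : CohTop.stalk F (str Z g o (c z)),
        CompactSub.stMap ((beta Z g c w).app G) z
          ((CompactSub.theta c ((resTo Z g o).obj G) z).hom (kappa Z g F o (c z) v)) =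
        kappa Z g F o' z (hw ▸ v) := by
      intro v
      obtain ⟨V, hV, t, rfl⟩ := TopCat.Presheaf.exists_germ_eq (C := AddCommGrpCat.{u}) (X := S) F.obj v
      have e : ∀ y (h : str Z g o (c z) = y),
          (h ▸ gm F (str Z g o (c z)) hV t : CohTop.stalk F y) = gm F y (h ▸ hV) t := by
        rintro _ rfl; rfl
      refine Eq.trans ?_ (congrArg (kappa Z g F o' z) (e _ hw).symm)
      refine ((congrArg (fun v => CompactSub.stMap ((beta Z g c w).app G) z ((CompactSub.theta c ((resTo Z g o).obj G) z).hom v))
        (kappa_gm Z g F o (c z) hV t)).trans (stMap_beta_theta Z g c w G z hV _)).trans ?_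
      refine Eq.trans ?_ (kappa_gm Z g F o' z (show str Z g o' z ∈ V from hw ▸ hV) t).symm
      have hle : pre Z g o' V ≤ (Opens.map c).obj (pre Z g o V) := fun x hx => by
        show str Z g o (c x) ∈ V
        rw [w x]; exact hx
      have hz' : z ∈ pre Z g o' V := show str Z g o' z ∈ V from hw ▸ hV
      refine (gm_res ((resTo Z g o').obj G) hle z hz' _).symm.trans ?_
      refine congrArg (gm ((resTo Z g o').obj G) z hz') ?_
      let u₀ := ((((opnFunctor Z g none).sheafAdjunctionContinuous AddCommGrpCat.{u}
        (Opens.grothendieckTopology (sp (S := S) Z none)) (covers Z g)).unit.app F).hom.app (op V)).hom t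
      show (G.obj.map (incl Z g o' hle).op).hom ((G.obj.map (memHom Z g c w (pre Z g o V)).op).hom
          ((G.obj.map (toBase Z g o V).op).hom u₀)) = (G.obj.map (toBase Z g o' V).op).hom u₀
      refine (ConcreteCategory.congr_hom ((G.obj.map_comp _ _).trans (congrArg (· ≫ _) (G.obj.map_comp _ _))).symm u₀).trans ?_
      exact congrArg (fun t => (G.obj.map (Quiver.Hom.op t)).hom u₀)
        (opn_hom_ext Z g fun x => w x.1 : incl Z g o' hle ≫ memHom Z g c w (pre Z g o V) ≫ toBase Z g o V = toBase Z g o' V)
    have hb : Function.Bijective fun v : CohTop.stalk F (str Z g o (c z)) => kappa Z g F o' z (hw ▸ v) := by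
      have : ∀ y (h : str Z g o (c z) = y), Function.Bijective fun v : CohTop.stalk F (str Z g o (c z)) =>
          (h ▸ v : CohTop.stalk F y) := by
        rintro _ rfl; exact Function.bijective_id
      exact (bijective_kappa Z g F o' z).comp (this _ hw)
    show Function.Bijective (fun v => CompactSub.stMap ((beta Z g c w).app G) z
      ((CompactSub.theta c ((resTo Z g o).obj G) z).hom (kappa Z g F o (c z) v)))
    rw [funext key]
    exact hb
  exact isIso_of_stalkF ((beta Z g c w).app ((fromBase Z g).obj F)) this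

end FromBase

section Fibre

variable (s : S) (hs : ∀ z, str Z g o' z = s)

/-- The comparison of a stalk of the direct image with sections over a member. -/
def lam : resTo Z g o ⋙ CohTop.push (str Z g o) ⋙ ClosedEmb.stalkF s ⟶ resTo Z g o' ⋙ DescentSS.secFun (sp (S := S) Z o') ⊤ :=
  Functor.whiskerLeft (resTo Z g o) (CompactSub.bcFibre c (str Z g o) s fun z => (w z).trans (hs z)) ≫
    Functor.whiskerRight (beta Z g c w) (DescentSS.secFun (sp (S := S) Z o') ⊤)

/-- The morphism from the member into an open neighbourhood. -/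
def nbhdHom {V : Opens S} (hV : s ∈ V) : mkObj Z g o' ⊤ ⟶ mkObj Z g o (pre Z g o V) :=
  incl Z g o' (fun z _ => show str Z g o (c z) ∈ V by rw [w z, hs z]; exact hV : ⊤ ≤ (Opens.map c).obj (pre Z g o V)) ≫
    memHom Z g c w (pre Z g o V)

lemma lam_gm (G : Sheaf (covers Z g) AddCommGrpCat.{u}) {V : Opens S} (hV : s ∈ V)
    (t : G.obj.obj (op (mkObj Z g o (pre Z g o V)))) :
    ((lam Z g c w s hs).app G).hom (gm ((CohTop.push (str Z g o)).obj ((resTo Z g o).obj G)) s hV t) =
      (G.obj.map (nbhdHom Z g c w s hs hV).op).hom t := by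
  let hy : ∀ z, str Z g o (c z) = s := fun z => (w z).trans (hs z)
  let G₀ := (resTo Z g o).obj G
  have h1 := CompactSub.stMap_gm ((CohTop.push (str Z g o)).map
    ((TopCat.Sheaf.pullbackPushforwardAdjunction AddCommGrpCat.{u} c).unit.app G₀)) s hV t
  have hle : (⊤ : Opens (sp (S := S) Z o')) ≤ (Opens.map c).obj (pre Z g o V) := fun z _ => by
    show str Z g o (c z) ∈ V
    rw [w z, hs z]; exact hV
  have h2 : ((CompactSub.bcFibre c (str Z g o) s hy).app G₀).hom (gm ((CohTop.push (str Z g o)).obj G₀) s hV t) =
      (((CohTop.pull c).obj G₀).obj.map (homOfLE hle).op).hom (CompactSub.etaSec (i := c) G₀ t) :=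
    (congrArg ((CompactSub.constStalk (c ≫ str Z g o) s hy).app ((CohTop.pull c).obj G₀)).hom h1).trans
      (ConcreteCategory.congr_hom (colimit.ι_desc (CompactSub.constCocone (c ≫ str Z g o) s hy ((CohTop.pull c).obj G₀))
        (op ⟨V, hV⟩)) (CompactSub.etaSec (i := c) G₀ t))
  show (((beta Z g c w).app G).hom.app (op ⊤)).hom (((CompactSub.bcFibre c (str Z g o) s hy).app G₀).hom
    (gm ((CohTop.push (str Z g o)).obj G₀) s hV t)) = _
  rw [h2]
  refine (ConcreteCategory.congr_hom (((beta Z g c w).app G).hom.naturality (homOfLE hle).op) _).trans ?_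
  refine Eq.trans ?_ (ConcreteCategory.congr_hom (G.obj.map_comp (memHom Z g c w (pre Z g o V)).op
    (incl Z g o' hle).op) t).symm
  exact congrArg (((resTo Z g o').obj G).obj.map (homOfLE hle).op).hom
    (ConcreteCategory.congr_hom (congrArg (fun m => m.hom.app (op (pre Z g o V))) (unit_beta Z g c w G)) t)

end Fibre

end Groth.Agent.ProperDescent
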