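import Groth.Agent.SiteBase.DescentSS.Site
import Groth.Agent.SiteBase.CompactSub.BaseChange

/-!
# The site of a family enlarged by its fibres
-/

set_option autoImplicit false
set_option linter.unusedSectionVars false
set_option backward.isDefEq.respectTransparency false

universe u

open CategoryTheory CategoryTheory.Limits Opposite TopologicalSpace Topology
open Groth.Agent.DescentSS

noncomputable section

namespace Groth.Agent.ProperDescent

variable {S : TopCat.{u}} {ι : Type u} (Z : ι → TopCat.{u}) (g : ∀ i, Z i ⟶ S)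

/-- The fibre of a member. -/
abbrev fibre (o : Option ι) (s : S) : Set (sp (S := S) Z o) := str Z g o ⁻¹' {s}

/-- The index set with fibres. -/
abbrev extι : Type u := ι ⊕ (Option ι × S)

/-- The members with fibres. -/
abbrev extZ : extι (S := S) (ι := ι) → TopCat.{u}
  | Sum.inl i => Z i
  | Sum.inr (o, s) => TopCat.of (fibre Z g o s)

/-- Their structure maps. -/
abbrev extG : ∀ j : extι (S := S) (ι := ι), extZ Z g j ⟶ S
  | Sum.inl i => g i
  | Sum.inr (o, s) => CompactSub.incl (fibre Z g o s) ≫ str Z g o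

/-- The enlarged site. -/
abbrev ExtOpn : Type u := Opn (extZ Z g) (extG Z g)

/-- Its topology. -/
abbrev extTop : GrothendieckTopology (ExtOpn Z g) := covers (extZ Z g) (extG Z g)

/-- The index of a member in the enlarged family. -/
abbrev liftIdx : Option ι → Option (extι (S := S) (ι := ι))
  | none => none
  | some i => some (Sum.inl i)

/-- An object of the small site in the enlarged one. -/
abbrev liftObj : Opn Z g → ExtOpn Z g
  | ⟨none, U⟩ => mkObj (extZ Z g) (extG Z g) none U
  | ⟨some i, U⟩ => mkObj (extZ Z g) (extG Z g) (some (Sum.inl i)) U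

/-- The inclusion functor. -/
def liftFun : Opn Z g ⥤ ExtOpn Z g where
  obj := liftObj Z g
  map {c d} h := InducedCategory.homMk (eqToHom (by rcases c with ⟨_ | i, U⟩ <;> rfl) ≫ h.hom ≫
    eqToHom (by rcases d with ⟨_ | i, U⟩ <;> rfl))
  map_id c := InducedCategory.hom_ext (by simp)
  map_comp h k := InducedCategory.hom_ext (by simp)

/-- The fibre as an object. -/
abbrev fibObj (o : Option ι) (s : S) : ExtOpn Z g :=
  mkObj (extZ Z g) (extG Z g) (some (Sum.inr (o, s))) ⊤

/-- The member over an open of the base, in the enlarged site. -/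
abbrev memObj (o : Option ι) (V : Opens S) : ExtOpn Z g := (liftFun Z g).obj (mkObj Z g o (pre Z g o V))

/-- The fibre maps into an open of the member. -/
def fibTo (o : Option ι) (s : S) (W : Opens (sp (S := S) Z o))
    (hW : fibre Z g o s ⊆ (W : Set (sp (S := S) Z o))) :
    fibObj Z g o s ⟶ (liftFun Z g).obj (mkObj Z g o W) :=
  match o, W, hW with
  | none, W, hW => mkHom (extZ Z g) (extG Z g) (TopCat.ofHom ⟨fun z => ⟨z.1.1, hW z.1.2⟩,
      (continuous_subtype_val.comp continuous_subtype_val).subtype_mk _⟩) fun _ => rfl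
  | some i, W, hW => mkHom (extZ Z g) (extG Z g) (TopCat.ofHom ⟨fun z => ⟨z.1.1, hW z.1.2⟩,
      (continuous_subtype_val.comp continuous_subtype_val).subtype_mk _⟩) fun _ => rfl

/-- The point of a member behind a point of a lifted object. -/
def ptOf : ∀ {c : Opn Z g}, ((liftFun Z g).obj c).2 → sp (S := S) Z c.1
  | ⟨none, _⟩, x => x.1
  | ⟨some _, _⟩, x => x.1

lemma ptOf_inj {c : Opn Z g} {x y : ((liftFun Z g).obj c).2} (h : ptOf Z g x = ptOf Z g y) : x = y := by
  rcases c with ⟨_ | i, U⟩ <;> exact Subtype.ext h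

lemma ptOf_map {c d : Opn Z g} (h : c ⟶ d) (x : ((liftFun Z g).obj c).2) (x' : c.2) (e : ptOf Z g x = x'.1) :
    ptOf Z g (fn (extZ Z g) (extG Z g) ((liftFun Z g).map h) x) = (fn Z g h x').1 := by
  rcases c with ⟨_ | i, U⟩ <;> rcases d with ⟨_ | j, W⟩ <;>
  · obtain rfl : x = x' := Subtype.ext e
    simp [liftFun, ptOf]
    rfl

lemma ptOf_fibTo (o : Option ι) (s : S) (W : Opens (sp (S := S) Z o))
    (hW : fibre Z g o s ⊆ (W : Set (sp (S := S) Z o))) (z : (fibObj Z g o s).2) :
    ptOf Z g (fn (extZ Z g) (extG Z g) (fibTo Z g o s W hW) z) = z.1.1 := by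
  cases o <;> rfl

/-- Morphisms into a lifted object are determined by the points. -/
lemma hom_ext_lift {c : ExtOpn Z g} {d : Opn Z g} {a b : c ⟶ (liftFun Z g).obj d}
    (h : ∀ x, ptOf Z g (fn (extZ Z g) (extG Z g) a x) = ptOf Z g (fn (extZ Z g) (extG Z g) b x)) : a = b :=
  opn_hom_ext (extZ Z g) (extG Z g) fun x => congrArg Subtype.val (ptOf_inj Z g (h x))

end Groth.Agent.ProperDescent
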