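import Groth.Agent.SiteBase.ProperDescent.Rows

/-!
# The nerve of a fibre and its contraction; comparison with the stalk of the rows
-/

set_option autoImplicit false
set_option linter.unusedSectionVars false
set_option backward.isDefEq.respectTransparency false

universe u

open CategoryTheory CategoryTheory.Limits Opposite Simplicial TopologicalSpace AlgebraicTopology
open Groth.Agent.DescentSS
open Groth.Agent.DescentSS.Germ (gm gm_res)

noncomputable section

namespace Groth.Agent.ProperDescent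

variable {X S : TopCat.{u}} (f : X ⟶ S) (s : S)

local notation "EZ" => extZ (powZ f) (powG f)
local notation "EG" => extG (powZ f) (powG f)

/-- The fibre of a member as an object. -/
abbrev fObj (o : Option (ULift.{u} ℕ)) : PExt f := fibObj (powZ f) (powG f) o s

/-- Reindexing of fibre powers. -/
def powMap {m n : ℕ} (φ : Fin (m + 1) → Fin (n + 1)) : powX f n ⟶ powX f m :=
  WidePullback.lift (WidePullback.base (fun _ : Fin (n + 1) => f))
    (fun i => WidePullback.π (fun _ : Fin (n + 1) => f) (φ i))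
    (fun i => WidePullback.π_arrow (fun _ : Fin (n + 1) => f) (φ i))

lemma prj_powMap {m n : ℕ} (φ : Fin (m + 1) → Fin (n + 1)) (i : Fin (m + 1)) (y : powX f n) :
    prj f i (powMap f φ y) = prj f (φ i) y :=
  ConcreteCategory.congr_hom (WidePullback.lift_π (arrows := fun _ : Fin (m + 1) => f)
    (WidePullback.base (fun _ : Fin (n + 1) => f)) (fun i => WidePullback.π (fun _ : Fin (n + 1) => f) (φ i))
    (fun i => WidePullback.π_arrow (fun _ : Fin (n + 1) => f) (φ i)) i) y

lemma powG_powMap {m n : ℕ} (φ : Fin (m + 1) → Fin (n + 1)) (y : powX f n) :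
    powG f ⟨m⟩ (powMap f φ y) = powG f ⟨n⟩ y := by
  rw [← f_prj f 0 (powMap f φ y), prj_powMap, f_prj]

/-- A map of members gives a map of fibres. -/
def fibMap {o o' : Option (ULift.{u} ℕ)} (m : sp (S := S) (powZ f) o ⟶ sp (S := S) (powZ f) o')
    (hm : ∀ y, str (powZ f) (powG f) o' (m y) = str (powZ f) (powG f) o y) : fObj f s o ⟶ fObj f s o' :=
  mkHom EZ EG (TopCat.ofHom ⟨fun z => ⟨⟨m z.1.1, (hm z.1.1).trans z.1.2⟩, trivial⟩,
      ((m.hom.continuous.comp (continuous_subtype_val.comp continuous_subtype_val)).subtype_mk _).subtype_mk _⟩)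
    fun z => hm z.1.1

/-- The nerve of the fibre. -/
def fibN : SimplicialObject (PExt f) where
  obj n := fObj f s (some ⟨n.unop.len⟩)
  map φ := fibMap f s (powMap f φ.unop.toOrderHom) (powG_powMap f φ.unop.toOrderHom)
  map_id n := opn_hom_ext EZ EG fun z => Subtype.ext (pow_ext f fun i => prj_powMap f _ i _)
  map_comp {a b c} φ ψ := opn_hom_ext EZ EG fun z => Subtype.ext (pow_ext f fun i =>
    (prj_powMap f _ i _).trans ((prj_powMap f ψ.unop.toOrderHom i _).trans (prj_powMap f φ.unop.toOrderHom _ _)).symm)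

/-- Its augmentation. -/
def fibAug : (fibN f s) _⦋0⦌ ⟶ fObj f s none :=
  fibMap f s (powG f ⟨0⟩) fun _ => rfl

lemma fibAug_w : (fibN f s).δ (0 : Fin 2) ≫ fibAug f s = (fibN f s).δ (1 : Fin 2) ≫ fibAug f s :=
  opn_hom_ext EZ EG fun z => Subtype.ext ((powG_powMap f (SimplexCategory.δ (0 : Fin 2)).toOrderHom z.1.1).trans
    (powG_powMap f (SimplexCategory.δ (1 : Fin 2)).toOrderHom z.1.1).symm)

/-- A map into a fibre from coordinates. -/
def intoFib {o : Option (ULift.{u} ℕ)} {n : ℕ} (t : Fin (n + 1) → ((Opens.toTopCat _).obj (fObj f s o).2 ⟶ X))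
    (ht : ∀ i z, f (t i z) = s) : fObj f s o ⟶ fObj f s (some ⟨n⟩) :=
  let b : (Opens.toTopCat _).obj (fObj f s o).2 ⟶ S :=
    TopCat.ofHom ⟨fun _ => s, continuous_const⟩
  let l : (Opens.toTopCat _).obj (fObj f s o).2 ⟶ powX f n :=
    WidePullback.lift b t fun i => TopCat.hom_ext (ContinuousMap.ext fun z => ht i z)
  have hl : ∀ z, powG f ⟨n⟩ (l z) = s := fun z =>
    ConcreteCategory.congr_hom (WidePullback.lift_base (arrows := fun _ : Fin (n + 1) => f)
      b t fun i => TopCat.hom_ext (ContinuousMap.ext fun z => ht i z)) z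
  mkHom EZ EG (TopCat.ofHom ⟨fun z => ⟨⟨l z, hl z⟩, trivial⟩, (l.hom.continuous.subtype_mk _).subtype_mk _⟩)
    fun z => (hl z).trans (show str (powZ f) (powG f) o z.1.1 = s from z.1.2).symm

lemma prj_intoFib {o : Option (ULift.{u} ℕ)} {n : ℕ} (t : Fin (n + 1) → ((Opens.toTopCat _).obj (fObj f s o).2 ⟶ X))
    (ht : ∀ i z, f (t i z) = s) (i : Fin (n + 1)) (z : (fObj f s o).2) :
    prj f i (fn EZ EG (intoFib f s t ht) z).1.1 = t i z :=
  ConcreteCategory.congr_hom (WidePullback.lift_π (arrows := fun _ : Fin (n + 1) => f)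
    (TopCat.ofHom ⟨fun _ => s, continuous_const⟩ : (Opens.toTopCat _).obj (fObj f s o).2 ⟶ S) t
    (fun i => TopCat.hom_ext (ContinuousMap.ext fun z => ht i z)) i) z

/-- The projection of a fibre. -/
def fibPrj {n : ℕ} (i : Fin (n + 1)) : (Opens.toTopCat _).obj (fObj f s (some ⟨n⟩)).2 ⟶ X :=
  TopCat.ofHom ⟨fun z => prj f i z.1.1,
    (WidePullback.π (fun _ : Fin (n + 1) => f) i).hom.continuous.comp
      (continuous_subtype_val.comp continuous_subtype_val)⟩

/-- A point of the fibre contracts its nerve. -/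
theorem rowExact_fibN (x₀ : X) (hx₀ : f x₀ = s) (P : (PExt f)ᵒᵖ ⥤ AddCommGrpCat.{u}) :
    RowExact (fibN f s) (fibAug f s) P := by
  let cst : ∀ o, (Opens.toTopCat _).obj (fObj f s o).2 ⟶ X := fun o => TopCat.ofHom ⟨fun _ => x₀, continuous_const⟩
  have ht : ∀ (p : ℕ) (i : Fin (p + 2)) z, f ((Fin.cons (cst (some ⟨p⟩)) (fun i => fibPrj f s i) :
      Fin (p + 2) → ((Opens.toTopCat _).obj (fObj f s (some ⟨p⟩)).2 ⟶ X)) i z) = s := fun p i z => by
    induction i using Fin.cases with
    | zero => exact hx₀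
    | succ i => exact (f_prj f i z.1.1).trans z.1.2
  let h : ∀ p : ℕ, (fibN f s) _⦋p⦌ ⟶ (fibN f s) _⦋p + 1⦌ := fun p =>
    intoFib f s (Fin.cons (cst (some ⟨p⟩)) (fun i => fibPrj f s i)) (ht p)
  let σ : fObj f s none ⟶ (fibN f s) _⦋0⦌ := intoFib f s (fun _ => cst none) fun _ _ => hx₀
  have hpt : ∀ {o : Option (ULift.{u} ℕ)} {n : ℕ} {a b : fObj f s o ⟶ fObj f s (some ⟨n⟩)},
      (∀ i z, prj f i (fn EZ EG a z).1.1 = prj f i (fn EZ EG b z).1.1) → a = b := fun h =>
    opn_hom_ext EZ EG fun z => Subtype.ext (pow_ext f fun i => h i z)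
  have hnone : ∀ {o : Option (ULift.{u} ℕ)} (a b : fObj f s o ⟶ fObj f s none), a = b := fun a b =>
    opn_hom_ext EZ EG fun z => Subtype.ext
      ((fn EZ EG a z).1.2.trans (fn EZ EG b z).1.2.symm)
  refine rowExact_of_contraction (fibN f s) (fibAug f s) P h σ (hnone _ _)
    (fun p => hpt fun i z => ?_) (hpt fun i z => ?_) (fun p j => hpt fun i z => ?_)
  · refine (prj_powMap f (SimplexCategory.δ (0 : Fin (p + 2))).toOrderHom i _).trans ?_
    refine (prj_intoFib f s _ _ _ z).trans ?_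
    show (Fin.cons (cst (some ⟨p⟩)) (fun i => fibPrj f s i) : Fin (p + 2) → ((Opens.toTopCat _).obj (fObj f s (some ⟨p⟩)).2 ⟶ X)) ((0 : Fin (p + 2)).succAbove i) z = _
    rw [Fin.succAbove_zero, Fin.cons_succ]
    rfl
  · refine (prj_powMap f (SimplexCategory.δ (1 : Fin 2)).toOrderHom i _).trans ?_
    refine (prj_intoFib f s _ _ _ z).trans ?_
    refine Eq.trans ?_ (prj_intoFib f s (fun _ => cst none) (fun _ _ => hx₀) i _).symm
    show (Fin.cons (cst (some ⟨0⟩)) (fun i => fibPrj f s i) : Fin 2 → ((Opens.toTopCat _).obj (fObj f s (some ⟨0⟩)).2 ⟶ X)) ((1 : Fin 2).succAbove i) z = _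
    rw [show (1 : Fin 2).succAbove i = 0 by fin_cases i; rfl, Fin.cons_zero]
    rfl
  · refine (prj_powMap f (SimplexCategory.δ j.succ).toOrderHom i _).trans ?_
    refine (prj_intoFib f s _ _ _ z).trans ?_
    refine Eq.trans ?_ (prj_intoFib f s _ (ht p) i _).symm
    show (Fin.cons (cst (some ⟨p + 1⟩)) (fun i => fibPrj f s i) : Fin (p + 3) → ((Opens.toTopCat _).obj (fObj f s (some ⟨p + 1⟩)).2 ⟶ X)) (j.succ.succAbove i) z = _
    induction i using Fin.cases with
    | zero =>
      rw [Fin.succ_succAbove_zero, Fin.cons_zero, Fin.cons_zero]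
      rfl
    | succ i =>
      rw [Fin.succ_succAbove_succ, Fin.cons_succ, Fin.cons_succ]
      exact (prj_powMap f (SimplexCategory.δ j).toOrderHom i _).symm

section Compare

/-- The inclusion of the fibre of a fibre power. -/
abbrev fInc (n : ℕ) : sp (S := S) EZ (some (Sum.inr (some ⟨n⟩, s))) ⟶ sp (S := S) EZ (pIdx n) :=
  CompactSub.incl (fibre (powZ f) (powG f) (some ⟨n⟩) s)

lemma fInc_w (n : ℕ) (z : sp (S := S) EZ (some (Sum.inr (some ⟨n⟩, s)))) :
    str EZ EG (pIdx n) (fInc f s n z) = str EZ EG (some (Sum.inr (some ⟨n⟩, s))) z := rfl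

/-- The comparison in one degree. -/
abbrev lamP (n : ℕ) : termF f n ⋙ ClosedEmb.stalkF s ⟶
    resTo EZ EG (some (Sum.inr (some ⟨n⟩, s))) ⋙ DescentSS.secFun (sp (S := S) EZ (some (Sum.inr (some ⟨n⟩, s)))) ⊤ :=
  lam EZ EG (fInc f s n) (fInc_w f s n) s (fun z => z.2)

lemma lamP_comm (I : Sheaf (pTop f) AddCommGrpCat.{u}) {m n : ℕ} (φ : Fin (m + 1) → Fin (n + 1)) :
    (ClosedEmb.stalkF s).map ((eTermMap f φ).app I) ≫ (lamP f s n).app I =
      (lamP f s m).app I ≫ I.obj.map (fibMap f s (o := some ⟨n⟩) (o' := some ⟨m⟩) (powMap f φ) (powG_powMap f φ)).op := by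
  refine TopCat.Presheaf.stalk_hom_ext _ fun V hV => ?_
  refine AddCommGrpCat.hom_ext (AddMonoidHom.ext fun t => ?_)
  show ((lamP f s n).app I).hom (CompactSub.stMap ((eTermMap f φ).app I) s (gm ((termF f m).obj I) s hV t)) =
    (I.obj.map _).hom (((lamP f s m).app I).hom (gm ((termF f m).obj I) s hV t))
  rw [CompactSub.stMap_gm]
  refine (lam_gm EZ EG (fInc f s n) (fInc_w f s n) s (fun z => z.2) I hV _).trans ?_
  refine Eq.trans ?_ (congrArg (I.obj.map (fibMap f s (o := some ⟨n⟩) (o' := some ⟨m⟩) (powMap f φ) (powG_powMap f φ)).op).hom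
    (lam_gm EZ EG (fInc f s m) (fInc_w f s m) s (fun z => z.2) I hV t)).symm
  refine (ConcreteCategory.congr_hom (I.obj.map_comp _ _).symm t).trans ?_
  refine Eq.trans ?_ (ConcreteCategory.congr_hom (I.obj.map_comp _ _) t)
  refine congrArg (fun q => (I.obj.map (Quiver.Hom.op q)).hom t) (?_ :
    nbhdHom EZ EG (fInc f s n) (fInc_w f s n) s (fun z => z.2) hV ≫ (Φ f).map (reidx f φ V) =
      fibMap f s (o := some ⟨n⟩) (o' := some ⟨m⟩) (powMap f φ) (powG_powMap f φ) ≫ nbhdHom EZ EG (fInc f s m) (fInc_w f s m) s (fun z => z.2) hV)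
  refine hom_ext_coord f fun i => ?_
  refine (coord_map_reidx f φ _ i).trans (TopCat.hom_ext (ContinuousMap.ext fun z => ?_))
  exact (prj_powMap f φ i z.1.1).symm

/-- The stalks of the rows. -/
abbrev stCx : Sheaf (pTop f) AddCommGrpCat.{u} ⥤ CochainComplex AddCommGrpCat.{u} ℕ :=
  eRow f ⋙ (ClosedEmb.stalkF s).mapHomologicalComplex (ComplexShape.up ℕ)

/-- The rows on the fibre. -/
abbrev fbCx : Sheaf (pTop f) AddCommGrpCat.{u} ⥤ CochainComplex AddCommGrpCat.{u} ℕ :=
  sheafToPresheaf (pTop f) AddCommGrpCat.{u} ⋙ cx (fibN f s)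

/-- The comparison of the stalk of the rows with the rows on the fibre. -/
def Lam : stCx f s ⟶ fbCx f s where
  app I :=
    { f := fun n => (lamP f s n).app I
      comm' := fun m n h => by
        obtain rfl : m + 1 = n := h
        show (lamP f s m).app I ≫ ((cx (fibN f s)).obj I.obj).d m (m + 1) =
          (ClosedEmb.stalkF s).map (((eRow f).obj I).d m (m + 1)) ≫ (lamP f s (m + 1)).app I
        rw [eRow_d_sum]
        refine Eq.trans ?_ (congrArg (· ≫ (lamP f s (m + 1)).app I) (Functor.map_sum (ClosedEmb.stalkF s) _ _)).symm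
        refine Eq.trans ?_ (Preadditive.sum_comp _ _ _).symm
        refine (congrArg ((lamP f s m).app I ≫ ·) (cx_d (fibN f s) I.obj m)).trans ((Preadditive.comp_sum _ _ _).trans ?_)
        refine Finset.sum_congr rfl fun i _ => ?_
        refine Eq.trans ?_ (congrArg (· ≫ (lamP f s (m + 1)).app I) (Functor.map_zsmul (F := ClosedEmb.stalkF s))).symm
        refine Eq.trans ?_ (Preadditive.zsmul_comp _ _ _).symm
        refine (Preadditive.comp_zsmul _ _ _).trans ?_
        exact congrArg ((-1 : ℤ) ^ (i : ℕ) • ·) (lamP_comm f s I i.succAbove).symm }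
  naturality I I' a := HomologicalComplex.hom_ext _ _ fun n => (lamP f s n).naturality a

end Compare

end Groth.Agent.ProperDescent
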