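import Groth.Agent.SiteBase.ProperDescent.ExtSite
import Groth.Agent.SiteBase.ProperDescent.Cofree
import Groth.Agent.SiteBase.ProperDescent.FibreIso
import Groth.Agent.SiteBase.DescentSS.Nerve
import Groth.Agent.SiteBase.DescentSS.Resolution

/-!
# The rows of the fibre powers on the site enlarged by the fibres
-/

set_option autoImplicit false
set_option linter.unusedSectionVars false
set_option backward.isDefEq.respectTransparency false

universe u

open CategoryTheory CategoryTheory.Limits Opposite Simplicial TopologicalSpace AlgebraicTopology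
open Groth.Agent.DescentSS

noncomputable section

namespace Groth.Agent.ProperDescent

variable {X S : TopCat.{u}} (f : X ⟶ S)

/-- The site. -/
abbrev PExt : Type u := ExtOpn (powZ f) (powG f)

/-- Its topology. -/
abbrev pTop : GrothendieckTopology (PExt f) := extTop (powZ f) (powG f)

/-- The inclusion of the site of fibre powers. -/
abbrev Φ : PowOpn f ⥤ PExt f := liftFun (powZ f) (powG f)

/-- The nerve over an open, in the enlarged site. -/
def eNerve (V : Opens S) : SimplicialObject (PExt f) where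
  obj n := (Φ f).obj ((nerve f V).obj n)
  map h := (Φ f).map ((nerve f V).map h)
  map_id n := (congrArg (Φ f).map ((nerve f V).map_id n)).trans ((Φ f).map_id _)
  map_comp h k := (congrArg (Φ f).map ((nerve f V).map_comp h k)).trans ((Φ f).map_comp _ _)

/-- Its augmentation. -/
abbrev eAug (V : Opens S) : (eNerve f V) _⦋0⦌ ⟶ (Φ f).obj (baseObj f V) := (Φ f).map (DescentSS.aug f V)

lemma eAug_w (V : Opens S) : (eNerve f V).δ (0 : Fin 2) ≫ eAug f V = (eNerve f V).δ (1 : Fin 2) ≫ eAug f V := by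
  show (Φ f).map _ ≫ (Φ f).map _ = (Φ f).map _ ≫ (Φ f).map _
  rw [← Functor.map_comp, ← Functor.map_comp]
  exact congrArg (Φ f).map (aug_w f V)

/-- The index of a fibre power. -/
abbrev pIdx (n : ℕ) : Option (extι (S := S) (ι := ULift.{u} ℕ)) := some (Sum.inl ⟨n⟩)

/-- The restriction to a fibre power. -/
abbrev resP (n : ℕ) : Sheaf (pTop f) AddCommGrpCat.{u} ⥤ CohTop.Ab (powX f n) :=
  resTo (extZ (powZ f) (powG f)) (extG (powZ f) (powG f)) (pIdx n)

/-- The terms of the row. -/
abbrev termF (n : ℕ) : Sheaf (pTop f) AddCommGrpCat.{u} ⥤ CohTop.Ab S :=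
  resP f n ⋙ CohTop.push (powG f ⟨n⟩)

/-- The maps of the row. -/
def eTermMap {m n : ℕ} (φ : Fin (m + 1) → Fin (n + 1)) : termF f m ⟶ termF f n where
  app I := ⟨{
    app := fun V => I.obj.map ((Φ f).map (reidx f φ V.unop)).op
    naturality := fun V W k => by
      refine (I.obj.map_comp _ _).symm.trans (Eq.trans ?_ (I.obj.map_comp _ _))
      refine congrArg (fun t => I.obj.map (Quiver.Hom.op t)) ?_
      show (Φ f).map (reidx f φ W.unop) ≫ (Φ f).map (incl (powZ f) (powG f) (some ⟨m⟩)
          (fun x (hx : x ∈ pre (powZ f) (powG f) (some ⟨m⟩) W.unop) => k.unop.le hx)) =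
        (Φ f).map (incl (powZ f) (powG f) (some ⟨n⟩)
          (fun x (hx : x ∈ pre (powZ f) (powG f) (some ⟨n⟩) W.unop) => k.unop.le hx)) ≫ (Φ f).map (reidx f φ V.unop)
      rw [← Functor.map_comp, ← Functor.map_comp]
      refine congrArg (Φ f).map (hom_ext_pow f fun i x => ?_)
      refine (prj_reidx f φ W.unop i x).trans ?_
      exact (prj_reidx f φ V.unop i (fn (powZ f) (powG f) (incl (powZ f) (powG f) (some ⟨n⟩)
        (fun y (hy : y ∈ pre (powZ f) (powG f) (some ⟨n⟩) W.unop) => k.unop.le hy)) x)).symm }⟩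
  naturality I I' a := Sheaf.hom_ext (NatTrans.ext (funext fun V => (a.hom.naturality _).symm))

/-- The rows as cosimplicial sheaves on the base. -/
def eRowObj : Sheaf (pTop f) AddCommGrpCat.{u} ⥤ CosimplicialObject (CohTop.Ab S) where
  obj I :=
    { obj := fun n => (termF f n.len).obj I
      map := fun φ => (eTermMap f φ.toOrderHom).app I
      map_id := fun n => Sheaf.hom_ext (NatTrans.ext (funext fun V => by
        show I.obj.map ((Φ f).map (reidx f (fun i => i) V.unop)).op = 𝟙 _
        rw [show reidx f (fun i : Fin (n.len + 1) => i) V.unop = 𝟙 _ from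
          hom_ext_pow f fun i x => (prj_reidx f _ V.unop i x).trans rfl, CategoryTheory.Functor.map_id, op_id, I.obj.map_id]))
      map_comp := fun {a b c} φ ψ => Sheaf.hom_ext (NatTrans.ext (funext fun V => by
        show I.obj.map ((Φ f).map (reidx f _ V.unop)).op =
          I.obj.map ((Φ f).map (reidx f φ.toOrderHom V.unop)).op ≫ I.obj.map ((Φ f).map (reidx f ψ.toOrderHom V.unop)).op
        rw [← I.obj.map_comp, ← op_comp, ← Functor.map_comp]
        refine congrArg (fun t => I.obj.map ((Φ f).map t).op) (hom_ext_pow f fun i x => ?_)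
        refine (prj_reidx f _ V.unop i x).trans ?_
        exact ((prj_reidx f φ.toOrderHom V.unop i _).trans (prj_reidx f ψ.toOrderHom V.unop _ x)).symm)) }
  map a :=
    { app := fun n => (termF f n.len).map a
      naturality := fun n m φ => ((eTermMap f φ.toOrderHom).naturality a).symm }
  map_id I := NatTrans.ext (funext fun n => (termF f n.len).map_id I)
  map_comp a b := NatTrans.ext (funext fun n => (termF f n.len).map_comp a b)

/-- The rows as complexes of sheaves on the base. -/
def eRow : Sheaf (pTop f) AddCommGrpCat.{u} ⥤ CochainComplex (CohTop.Ab S) ℕ :=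
  eRowObj f ⋙ alternatingCofaceMapComplex (CohTop.Ab S)

instance eRow_additive : (eRow f).Additive where
  map_add {P Q a b} := HomologicalComplex.hom_ext _ _ fun n => (termF f n).map_add (f := a) (g := b)

lemma eRow_d (I : Sheaf (pTop f) AddCommGrpCat.{u}) (V : Opens S) (n : ℕ) :
    (DescentSS.secFun S V).map (((eRow f).obj I).d n (n + 1)) = ((cx (eNerve f V)).obj I.obj).d n (n + 1) := by
  have h : ((eRow f).obj I).d n (n + 1) = ∑ i : Fin (n + 2), (-1 : ℤ) ^ (i : ℕ) • ((eRowObj f).obj I).δ i :=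
    CochainComplex.of_d (fun n : ℕ => ((eRowObj f).obj I).obj ⦋n⦌)
      (fun n => ∑ i : Fin (n + 2), (-1 : ℤ) ^ (i : ℕ) • ((eRowObj f).obj I).δ i) n
  rw [h, Functor.map_sum, cx_d]
  refine Finset.sum_congr rfl fun i _ => ?_
  rw [Functor.map_zsmul]
  rfl

lemma eRow_d_sum (I : Sheaf (pTop f) AddCommGrpCat.{u}) (n : ℕ) :
    ((eRow f).obj I).d n (n + 1) = ∑ i : Fin (n + 2), (-1 : ℤ) ^ (i : ℕ) • (eTermMap f i.succAbove).app I :=
  CochainComplex.of_d (fun n : ℕ => ((eRowObj f).obj I).obj ⦋n⦌)
    (fun n => ∑ i : Fin (n + 2), (-1 : ℤ) ^ (i : ℕ) • ((eRowObj f).obj I).δ i) n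

/-- Sections over an open of the rows. -/
def rowSecIso (V : Opens S) :
    eRow f ⋙ (DescentSS.secFun S V).mapHomologicalComplex (ComplexShape.up ℕ) ≅
      sheafToPresheaf (pTop f) AddCommGrpCat.{u} ⋙ cx (eNerve f V) :=
  NatIso.ofComponents
    (fun I => HomologicalComplex.Hom.isoOfComponents (fun n => Iso.refl _) (fun i j h => by
      obtain rfl : i + 1 = j := h
      exact (Category.id_comp _).trans ((eRow_d f I V i).symm.trans (Category.comp_id _).symm)))
    (fun a => HomologicalComplex.hom_ext _ _ fun n => (Category.comp_id _).trans (Category.id_comp _).symm)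

section Exact

variable (I : Sheaf (pTop f) AddCommGrpCat.{u})

/-- A point of the fibre powers over an object of the enlarged site. -/
abbrev Lifts (T : PExt f) (V : Opens S) : Type u := T ⟶ (Φ f).obj (powObj f 0 V)

lemma ptStr {T : PExt f} {n : ℕ} {V : Opens S} (φ : T ⟶ (Φ f).obj (powObj f n V)) (x : T.2) :
    powG f ⟨n⟩ (fn (extZ (powZ f) (powG f)) (extG (powZ f) (powG f)) φ x).1 =
      str (extZ (powZ f) (powG f)) (extG (powZ f) (powG f)) T.1 x.1 :=
  fn_w (extZ (powZ f) (powG f)) (extG (powZ f) (powG f)) φ x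

/-- The coordinates of a lift. -/
def coord {T : PExt f} {n : ℕ} {V : Opens S} (φ : T ⟶ (Φ f).obj (powObj f n V)) (i : Fin (n + 1)) :
    (Opens.toTopCat _).obj T.2 ⟶ X :=
  fn (extZ (powZ f) (powG f)) (extG (powZ f) (powG f)) φ ≫ prjHom f V i

/-- A morphism into a fibre power from coordinates. -/
def eInto {T : PExt f} {n : ℕ} (V : Opens S) (t : Fin (n + 1) → ((Opens.toTopCat _).obj T.2 ⟶ X))
    (ht : ∀ i x, f (t i x) = str (extZ (powZ f) (powG f)) (extG (powZ f) (powG f)) T.1 x.1)
    (hV : ∀ x : T.2, str (extZ (powZ f) (powG f)) (extG (powZ f) (powG f)) T.1 x.1 ∈ V) :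
    T ⟶ (Φ f).obj (powObj f n V) :=
  let l : (Opens.toTopCat _).obj T.2 ⟶ powX f n :=
    WidePullback.lift (T.2.inclusion' ≫ str (extZ (powZ f) (powG f)) (extG (powZ f) (powG f)) T.1) t
      fun i => TopCat.hom_ext (ContinuousMap.ext fun x => ht i x)
  have hl : ∀ x, powG f ⟨n⟩ (l x) = str (extZ (powZ f) (powG f)) (extG (powZ f) (powG f)) T.1 x.1 := fun x =>
    ConcreteCategory.congr_hom (WidePullback.lift_base (arrows := fun _ : Fin (n + 1) => f)
      (T.2.inclusion' ≫ str (extZ (powZ f) (powG f)) (extG (powZ f) (powG f)) T.1) t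
      fun i => TopCat.hom_ext (ContinuousMap.ext fun x => ht i x)) x
  mkHom (extZ (powZ f) (powG f)) (extG (powZ f) (powG f))
    (TopCat.ofHom ⟨fun x => ⟨l x, show powG f ⟨n⟩ (l x) ∈ V by rw [hl x]; exact hV x⟩,
      Continuous.subtype_mk l.hom.continuous _⟩) hl

lemma coord_eInto {T : PExt f} {n : ℕ} (V : Opens S) (t : Fin (n + 1) → ((Opens.toTopCat _).obj T.2 ⟶ X))
    (ht : ∀ i x, f (t i x) = str (extZ (powZ f) (powG f)) (extG (powZ f) (powG f)) T.1 x.1)
    (hV : ∀ x : T.2, str (extZ (powZ f) (powG f)) (extG (powZ f) (powG f)) T.1 x.1 ∈ V) (i : Fin (n + 1)) :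
    coord f (eInto f V t ht hV) i = t i :=
  TopCat.hom_ext (ContinuousMap.ext fun x => ConcreteCategory.congr_hom
    (WidePullback.lift_π (arrows := fun _ : Fin (n + 1) => f)
      (T.2.inclusion' ≫ str (extZ (powZ f) (powG f)) (extG (powZ f) (powG f)) T.1) t
      (fun i => TopCat.hom_ext (ContinuousMap.ext fun x => ht i x)) i) x)

lemma f_coord {T : PExt f} {n : ℕ} {V : Opens S} (φ : T ⟶ (Φ f).obj (powObj f n V)) (i : Fin (n + 1))
    (x : T.2) : f (coord f φ i x) = str (extZ (powZ f) (powG f)) (extG (powZ f) (powG f)) T.1 x.1 :=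
  (f_prj f i _).trans (ptStr f φ x)

lemma hom_ext_coord {T : PExt f} {n : ℕ} {V : Opens S} {a b : T ⟶ (Φ f).obj (powObj f n V)}
    (h : ∀ i, coord f a i = coord f b i) : a = b :=
  opn_hom_ext (extZ (powZ f) (powG f)) (extG (powZ f) (powG f)) fun x =>
    pow_ext f fun i => ConcreteCategory.congr_hom (h i) x

lemma coord_map_reidx {T : PExt f} {m n : ℕ} {V : Opens S} (φ : Fin (m + 1) → Fin (n + 1))
    (a : T ⟶ (Φ f).obj (powObj f n V)) (i : Fin (m + 1)) :
    coord f (a ≫ (Φ f).map (reidx f φ V)) i = coord f a (φ i) := by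
  refine TopCat.hom_ext (ContinuousMap.ext fun x => ?_)
  let y := fn (extZ (powZ f) (powG f)) (extG (powZ f) (powG f)) a x
  show prj f i (fn (extZ (powZ f) (powG f)) (extG (powZ f) (powG f)) ((Φ f).map (reidx f φ V)) y).1 = _
  refine (congrArg (prj f i) (ptOf_map (powZ f) (powG f) (reidx f φ V) y ⟨y.1, y.2⟩ rfl)).trans ?_
  exact prj_reidx f φ V i ⟨y.1, y.2⟩

/-- The rows of injective sheaves are exact on sections in positive degrees. -/
theorem exactAt_eNerve [Injective I] (V : Opens S) (p : ℕ) :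
    ((cx (eNerve f V)).obj I.obj).ExactAt (p + 1) := by
  classical
  have : Injective I.obj :=
    (sheafificationAdjunction (pTop f) AddCommGrpCat.{u}).map_injective I ‹_›
  let E := str (extZ (powZ f) (powG f)) (extG (powZ f) (powG f))
  let pick : ∀ (T : PExt f) (_ : Nonempty (Lifts f T V)),
      {c : (Opens.toTopCat _).obj T.2 ⟶ X // ∀ x, f (c x) = E T.1 x.1} := fun T hT =>
    ⟨coord f (Classical.choice hT) 0, f_coord f (Classical.choice hT) 0⟩
  have ne : ∀ {T : PExt f} {n : ℕ} (_ : T ⟶ (Φ f).obj (powObj f n V)), Nonempty (Lifts f T V) := fun φ =>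
    ⟨φ ≫ (Φ f).map (reidx f (fun _ => 0) V)⟩
  let h : ∀ (T : PExt f) (q : ℕ), (T ⟶ (eNerve f V) _⦋q⦌) → (T ⟶ (eNerve f V) _⦋q + 1⦌) := fun T q φ =>
    eInto f V (Fin.cons (pick T (ne φ)).1 (fun i => coord f φ i))
      (fun i x => by
        induction i using Fin.cases with
        | zero => exact (pick T (ne φ)).2 x
        | succ i => exact f_coord f φ i x)
      (fun x => (ptStr f φ x) ▸ (fn (extZ (powZ f) (powG f)) (extG (powZ f) (powG f)) φ x).2)
  refine exactAt_cx_of_injective (eNerve f V) h (fun T q φ => hom_ext_coord f fun i => ?_)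
    (fun T q φ j => hom_ext_coord f fun i => ?_) I.obj p
  · refine (coord_map_reidx f (SimplexCategory.δ (0 : Fin (q + 2))).toOrderHom (h T q φ) i).trans ?_
    refine (coord_eInto f V _ _ _ _).trans ?_
    show (Fin.cons _ _ : Fin (q + 2) → _) ((0 : Fin (q + 2)).succAbove i) = _
    rw [Fin.succAbove_zero, Fin.cons_succ]
  · refine (coord_map_reidx f (SimplexCategory.δ j.succ).toOrderHom (h T (q + 1) φ) i).trans ?_
    refine (coord_eInto f V _ _ _ _).trans ?_
    refine Eq.trans ?_ (coord_eInto f V _ _ _ _).symm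
    show (Fin.cons _ _ : Fin (q + 3) → _) (j.succ.succAbove i) = _
    induction i using Fin.cases with
    | zero =>
      rw [Fin.succ_succAbove_zero, Fin.cons_zero, Fin.cons_zero]
    | succ i =>
      rw [Fin.succ_succAbove_succ, Fin.cons_succ, Fin.cons_succ]
      exact (coord_map_reidx f (SimplexCategory.δ j).toOrderHom φ i).symm

/-- The rows of injective sheaves are exact in positive degrees. -/
theorem exactAt_eRow [Injective I] (p : ℕ) : ((eRow f).obj I).ExactAt (p + 1) := by
  rw [((eRow f).obj I).exactAt_iff' p (p + 1) (p + 1 + 1) (by simp) (by simp)]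
  refine BigSiteLib.FppfDesc.exact_of_locally_boundary fun V x hx => ?_
  have h := exactAt_eNerve f I V p
  rw [((cx (eNerve f V)).obj I.obj).exactAt_iff' p (p + 1) (p + 1 + 1) (by simp) (by simp),
    ShortComplex.ab_exact_iff] at h
  obtain ⟨y, hy⟩ := h x ((ConcreteCategory.congr_hom (eRow_d f I V (p + 1)).symm x).trans hx)
  intro z hz
  refine ⟨V, 𝟙 V, ⟨y, ?_⟩, hz⟩
  refine ((ConcreteCategory.congr_hom (eRow_d f I V p) y).trans hy).trans ?_
  exact (ConcreteCategory.congr_hom ((((eRow f).obj I).X (p + 1)).obj.map_id (op V)) x).symm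

end Exact

end Groth.Agent.ProperDescent
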